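import Groth.Agent.FunFldLib.Fibre.Local
import Groth.Agent.FunFldLib.PlaneModel
import Mathlib.RingTheory.Trace.Basic

/-! The conductor of a monogenic ring at a fibre. -/

set_option autoImplicit false

open WithZero Polynomial
open LocRes (hasseD IsHasseFamily)

namespace Groth.Agent.FunFldLib.Plane

open FunFld Groth.Agent.FunFldLib Groth.Agent.FunFldLib.Fibre

variable {k K : Type*} [Field k] [Field K] [Algebra k K]

local notation "Fw" w => IntermediateField.adjoin k ({w} : Set K)

/-- the derivative at `η` of `Y ^ n - ∑ c j Y ^ j` -/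
noncomputable def dRel (η : K) {n : ℕ} (c : Fin n → K) : K :=
  n * η ^ (n - 1) - ∑ j : Fin n, c j * ((j : ℕ) * η ^ ((j : ℕ) - 1))

/-- the ring generated by `η` and the integral elements of `k(ξ)` -/
noncomputable def coordRing (k : Type*) {K : Type*} [Field k] [Field K] [Algebra k K] (ξ η : K) :
    Subalgebra k K :=
  Algebra.adjoin k ({η} ∪ {a | a ∈ IntermediateField.adjoin k ({ξ} : Set K) ∧ Int k ξ a})

theorem eta_mem (ξ η : K) : η ∈ coordRing k ξ η := Algebra.subset_adjoin (Or.inl rfl)

theorem coeff_mem {ξ η a : K} (ha : a ∈ IntermediateField.adjoin k ({ξ} : Set K)) (hi : Int k ξ a) :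
    a ∈ coordRing k ξ η := Algebra.subset_adjoin (Or.inr ⟨ha, hi⟩)

theorem coordRing_int {ξ η : K} (hη : Int k ξ η) {a : K} (ha : a ∈ coordRing k ξ η) : Int k ξ a := by
  induction ha using Algebra.adjoin_induction with
  | mem x hx =>
    rcases hx with rfl | ⟨-, h⟩
    · exact hη
    · exact h
  | algebraMap c => exact Int.const c
  | add a b _ _ ha hb => exact ha.add hb
  | mul a b _ _ ha hb => exact ha.mul hb

variable [IsAlgClosed k] (hK : IsFunctionField k K) {ξ η : K} (hξ : Transcendental k ξ)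
  (hgen : IntermediateField.adjoin k ({ξ, η} : Set K) = ⊤) {n : ℕ} (hn : n = degX k ξ)
  {c : Fin n → K} (hc : ∀ j, c j ∈ IntermediateField.adjoin k ({ξ} : Set K))
  (hrel : η ^ n = ∑ j : Fin n, c j * η ^ (j : ℕ))

include hK hξ hgen hn hc hrel

omit [IsAlgClosed k] in
theorem minpoly_eq :
    minpoly (IntermediateField.adjoin k ({ξ} : Set K)) η =
      X ^ n - ∑ j : Fin n, C (⟨c j, hc j⟩ : IntermediateField.adjoin k ({ξ} : Set K)) * X ^ (j : ℕ) := by
  classical
  have := finite_over hK.1 hξ
  set p : (IntermediateField.adjoin k ({ξ} : Set K))[X] :=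
    X ^ n - ∑ j : Fin n, C (⟨c j, hc j⟩ : IntermediateField.adjoin k ({ξ} : Set K)) * X ^ (j : ℕ)
  have hdlt : (∑ j : Fin n, C (⟨c j, hc j⟩ : IntermediateField.adjoin k ({ξ} : Set K)) * X ^ (j : ℕ)).degree <
      (n : WithBot ℕ) :=
    lt_of_le_of_lt (degree_sum_le _ _) ((Finset.sup_lt_iff (WithBot.bot_lt_coe n)).2 fun i _ =>
      (degree_C_mul_X_pow_le _ _).trans_lt (WithBot.coe_lt_coe.2 i.2))
  have hpm : p.Monic := monic_X_pow_sub hdlt
  have hpd : p.natDegree = n := natDegree_eq_of_degree_eq_some (by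
    rw [degree_sub_eq_left_of_degree_lt (by rwa [degree_X_pow]), degree_X_pow])
  have hp0 : aeval η p = 0 := by
    simp only [p, map_sub, map_pow, aeval_X, map_sum, map_mul, aeval_C]
    rw [sub_eq_zero, hrel]
    rfl
  have hint : IsIntegral (IntermediateField.adjoin k ({ξ} : Set K)) η := IsIntegral.of_finite _ η
  refine eq_of_monic_of_dvd_of_natDegree_le (minpoly.monic hint) hpm (minpoly.dvd _ η hp0) ?_ |>.symm
  rw [hpd, natDegree_minpoly hK hξ hgen, hn]

omit [IsAlgClosed k] in
theorem derivative_minpoly :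
    aeval η (derivative (minpoly (IntermediateField.adjoin k ({ξ} : Set K)) η)) = dRel η c ∧
    (minpoly (IntermediateField.adjoin k ({ξ} : Set K)) η).natDegree = n := by
  refine ⟨?_, by rw [natDegree_minpoly hK hξ hgen, hn]⟩
  rw [minpoly_eq hK hξ hgen hn hc hrel, derivative_sub, derivative_X_pow, derivative_sum, map_sub, map_sum, map_mul,
    aeval_C, map_pow, aeval_X, map_natCast, dRel]
  congr 1
  refine Finset.sum_congr rfl fun i _ => ?_
  rw [derivative_C_mul_X_pow, map_mul, aeval_C, map_pow, aeval_X, map_mul, map_natCast, mul_assoc]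
  rfl

variable (hci : ∀ j, Int k ξ (c j)) (hη : Int k ξ η) {s : K} {H : K →ₐ[k] PowerSeries K}
  (hH : IsHasseFamily s H) (hsw : hasseD H 1 ξ ≠ 0)
include hci hη hH hsw

/-- the key facts: the different bounds the derivative, with equality exactly on the nonsingular part -/
theorem core (Q : Place k K) (hQ : 0 < Q.ord ξ) {t : K} (ht : Q.1 t = exp (-1))
    {Ht : K →ₐ[k] PowerSeries K} (hHt : IsHasseFamily t Ht) :
    dRel η c ≠ 0 ∧ Q.1 (dRel η c) ≤ Q.1 (hasseD Ht 1 ξ) ∧
    (Q.1 (dRel η c) = Q.1 (hasseD Ht 1 ξ) ↔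
      ∀ z : K, Q.1 z ≤ 1 → ∃ a ∈ coordRing k ξ η, ∃ b ∈ coordRing k ξ η, Q.1 b = 1 ∧ z * b = a) := by
  classical
  have := finite_over hK.1 hξ
  obtain ⟨y, d, m, hm, hm0, hyi, hd0, hsep, hcoords, -, hdv⟩ := exists_local hK hξ hH hsw
  have hdual := trace_dual hK hξ hH hsw
  have hint : IsIntegral (Fw ξ) η := IsIntegral.of_finite _ η
  obtain ⟨hG, hdeg0⟩ := derivative_minpoly hK hξ hgen hn hc hrel
  have hdeg : (minpoly (Fw ξ) η).natDegree = n := hdeg0
  set G := dRel η c
  have hnm : n = Module.finrank (Fw ξ) K := hn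
  have hn0 : 0 < n := hnm ▸ Module.finrank_pos
  have hG0 : G ≠ 0 := by
    rw [← hG]
    exact (Algebra.IsSeparable.isSeparable (Fw ξ) η).aeval_derivative_ne_zero (minpoly.aeval _ _)
  have hadj : IntermediateField.adjoin (Fw ξ) ({η} : Set K) = ⊤ := by
    apply IntermediateField.restrictScalars_injective k
    rw [IntermediateField.adjoin_adjoin_left, IntermediateField.restrictScalars_top, Set.singleton_union, hgen]
  have hadj' : Algebra.adjoin (Fw ξ) ({η} : Set K) = ⊤ := by
    have := congrArg IntermediateField.toSubalgebra hadj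
    rwa [IntermediateField.adjoin_simple_toSubalgebra_of_isAlgebraic hint.isAlgebraic,
      IntermediateField.top_toSubalgebra] at this
  set q : ℕ → K := fun j => (minpolyDiv (Fw ξ) η).coeff j
  have hmc : ∀ i, ((minpoly (Fw ξ) η).coeff i : K) ∈ coordRing k ξ η := by
    intro i
    rw [minpoly_eq hK hξ hgen hn hc hrel]
    simp only [coeff_sub, finsetSum_coeff, coeff_X_pow, coeff_C_mul_X_pow, AddSubgroupClass.coe_sub,
      AddSubmonoidClass.coe_finsetSum]
    refine sub_mem ?_ (sum_mem fun l _ => ?_)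
    · split_ifs <;> simp [one_mem, zero_mem]
    · split_ifs
      · exact coeff_mem (hc l) (hci l)
      · simp [zero_mem]
  have hqmem : ∀ j, q j ∈ coordRing k ξ η := by
    suffices ∀ r j, n ≤ r + j → q j ∈ coordRing k ξ η from fun j => this n j (Nat.le_add_right _ _)
    intro r
    induction r with
    | zero =>
      intro j hj
      have : q j = 0 := coeff_eq_zero_of_natDegree_lt (by
        have := natDegree_minpolyDiv_lt hint
        omega)
      rw [this]; exact zero_mem _
    | succ r ih =>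
      intro j hj
      show (minpolyDiv (Fw ξ) η).coeff j ∈ _
      rw [coeff_minpolyDiv]
      exact add_mem (hmc _) (mul_mem (ih (j + 1) (by omega)) (eta_mem _ _))
  have heuler : ∀ r j, r < n → Algebra.trace (Fw ξ) K (η ^ r / G * q j) = if j = r then 1 else 0 := by
    intro r j hr
    have h := congrArg (fun p : (AlgebraicClosure (Fw ξ))[X] => p.coeff j)
      (sum_smul_minpolyDiv_eq_X_pow (AlgebraicClosure (Fw ξ)) (x := η) hadj' (r := r) (hnm ▸ hr))
    simp only [finsetSum_coeff, coeff_map, coeff_smul, smul_eq_mul, coeff_X_pow] at h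
    apply (algebraMap (Fw ξ) (AlgebraicClosure (Fw ξ))).injective
    rw [trace_eq_sum_embeddings (E := AlgebraicClosure (Fw ξ))]
    refine Eq.trans ?_ (h.trans ?_)
    · simp [hG, q]
    · split_ifs <;> simp
  have hlast : q (n - 1) = 1 := by
    have h1 := (minpolyDiv_monic hint).leadingCoeff
    rwa [leadingCoeff, natDegree_minpolyDiv, hdeg] at h1
  -- traces on the coordinate ring
  let T : Set K := {a | ∀ r : ℕ, Int k ξ ((Algebra.trace (Fw ξ) K (a * η ^ r / G) : (Fw ξ)) : K)}
  have hscal : ∀ (a : (Fw ξ)) (z : K), Algebra.trace (Fw ξ) K ((a : K) * z) = a * Algebra.trace (Fw ξ) K z := fun a z => by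
    rw [← smul_eq_mul (a : K) z, ← IntermediateField.smul_def, map_smul, smul_eq_mul]
  have hT1 : (1 : K) ∈ T := by
    intro r
    induction r using Nat.strong_induction_on with
    | _ r ih =>
      rcases lt_or_ge r n with hr | hr
      · rw [one_mul, show η ^ r / G = η ^ r / G * q (n - 1) by rw [hlast, mul_one], heuler r _ hr]
        split_ifs
        · exact Int.one
        · exact Int.zero
      · obtain ⟨e, rfl⟩ := Nat.exists_eq_add_of_le hr
        have he : (1 : K) * η ^ (n + e) / G = ∑ j : Fin n, c j * (1 * η ^ ((j : ℕ) + e) / G) := by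
          rw [pow_add, hrel, Finset.sum_mul, Finset.mul_sum, Finset.sum_div]
          exact Finset.sum_congr rfl fun j _ => by rw [pow_add]; ring
        rw [he, map_sum, AddSubmonoidClass.coe_finsetSum]
        refine Int.sum _ _ fun j _ => ?_
        rw [show c j = ((⟨c j, hc j⟩ : (Fw ξ)) : K) from rfl, hscal, IntermediateField.coe_mul]
        exact (hci j).mul (ih _ (by omega))
  have hTA : ∀ a ∈ coordRing k ξ η, ∀ b ∈ T, a * b ∈ T := by
    intro a ha
    induction ha using Algebra.adjoin_induction with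
    | mem x hx =>
      intro b hb r
      rcases hx with rfl | ⟨hxF, hxi⟩
      · have := hb (r + 1)
        rwa [pow_succ, ← mul_assoc, mul_comm (b * _) x, ← mul_assoc] at this
      · rw [mul_assoc, mul_div_assoc, show x = ((⟨x, hxF⟩ : (Fw ξ)) : K) from rfl, hscal, IntermediateField.coe_mul]
        exact hxi.mul (hb r)
    | algebraMap c =>
      intro b hb r
      rw [mul_assoc, mul_div_assoc, show algebraMap k K c = ((algebraMap k (Fw ξ) c : (Fw ξ)) : K) from rfl, hscal,
        IntermediateField.coe_mul]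
      exact (Int.const c).mul (hb r)
    | add a a' _ _ iha iha' =>
      intro b hb r
      rw [add_mul, add_mul, add_div, map_add, IntermediateField.coe_add]
      exact (iha b hb r).add (iha' b hb r)
    | mul a a' _ _ iha iha' =>
      intro b hb
      rw [mul_assoc]
      exact iha _ (iha' b hb)
  have htrA : ∀ a ∈ coordRing k ξ η, Int k ξ ((Algebra.trace (Fw ξ) K (a / G) : (Fw ξ)) : K) := fun a ha => by
    have := hTA a ha 1 hT1 0
    simpa using this
  -- the dual of the coordinate ring
  have hdualA : ∀ z : K, Reg k ξ z → z * G ∈ coordRing k ξ η := by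
    intro z hz
    set b : ℕ → (Fw ξ) := fun j => Algebra.trace (Fw ξ) K (z * η ^ j)
    have hb : ∀ j, Int k ξ (b j : K) := fun j => (hdual z).2 hz _ (hη.pow j)
    set z' := ∑ j : Fin n, (b j : K) * (q j / G)
    have hz' : ∀ r, r < n → Algebra.trace (Fw ξ) K (z' * η ^ r) = b r := by
      intro r hr
      rw [Finset.sum_mul, map_sum, Finset.sum_eq_single (⟨r, hr⟩ : Fin n)]
      · rw [mul_assoc, hscal, show q r / G * η ^ r = η ^ r / G * q r by ring, heuler r r hr, if_pos rfl, mul_one]
      · intro j _ hj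
        rw [mul_assoc, hscal, show q (j : ℕ) / G * η ^ r = η ^ r / G * q j by ring, heuler r j hr,
          if_neg (fun h => hj (Fin.ext h)), mul_zero]
      · simp
    have heq : z = z' := by
      by_contra hne
      have hall : ∀ u : K, Algebra.trace (Fw ξ) K ((z - z') * u) = 0 := by
        intro u
        obtain ⟨p, -, rfl⟩ : ∃ p : (Fw ξ)[X], True ∧ aeval η p = u := by
          have : u ∈ Algebra.adjoin (Fw ξ) ({η} : Set K) := hadj' ▸ Algebra.mem_top
          rw [Algebra.adjoin_singleton_eq_range_aeval] at this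
          obtain ⟨p, hp⟩ := this
          exact ⟨p, trivial, hp⟩
        rw [← aeval_modByMonic_eq_self_of_root (p := p) (minpoly.aeval (Fw ξ) η)]
        have hlt : (p %ₘ minpoly (Fw ξ) η).natDegree < n := hdeg ▸ natDegree_modByMonic_lt _ (minpoly.monic hint) (fun h => by
          rw [h, natDegree_one] at hdeg; omega)
        rw [aeval_eq_sum_range' hlt, Finset.mul_sum, map_sum]
        refine Finset.sum_eq_zero fun r hr => ?_
        rw [Finset.mem_range] at hr
        rw [mul_smul_comm, map_smul, sub_mul, map_sub, hz' r hr, sub_self, smul_zero]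
      have h1 := hall (z - z')⁻¹
      rw [mul_inv_cancel₀ (sub_ne_zero.2 hne)] at h1
      exact Algebra.trace_ne_zero (Fw ξ) K (LinearMap.ext fun u => by
        have := hall ((z - z')⁻¹ * u)
        rwa [mul_inv_cancel_left₀ (sub_ne_zero.2 hne)] at this)
    rw [heq, Finset.sum_mul]
    refine sum_mem fun j _ => ?_
    rw [mul_assoc, div_mul_cancel₀ _ hG0]
    exact mul_mem (coeff_mem (b j).2 (hb j)) (hqmem j)
  have hQd := hdv Q hQ t ht Ht hHt
  -- a regular element exact at `Q`
  obtain ⟨g, hgint, hgQ⟩ : ∃ g : K, Int k ξ g ∧ Q.1 g = 1 := ⟨1, Int.one, map_one _⟩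
  have hreg : Reg k ξ (g / d) := by
    intro R hR t' ht' Ht' hHt'
    rw [map_mul, ← hdv R hR t' ht' Ht' hHt', ← map_mul, div_mul_cancel₀ _ hd0]
    exact hgint R hR
  have hle : Q.1 G ≤ Q.1 (hasseD Ht 1 ξ) := by
    have h := coordRing_int hη (hdualA _ hreg) Q hQ
    rw [map_mul, map_div₀, hgQ, one_div, inv_mul_le_iff₀ (zero_lt_iff.2 (v_ne_zero Q hd0)), mul_one] at h
    rw [← hQd]; exact h
  refine ⟨hG0, hle, ?_, ?_⟩
  · intro heqv z hz
    -- approximate `z` by a fibrewise integral fraction
    obtain ⟨S, hS, -⟩ := sum_ord hK hξ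
    obtain ⟨b1, hb1Q, hb1⟩ : ∃ b1 : K, Q.1 b1 = 1 ∧ ∀ R : Place k K, 0 < R.ord ξ → R.1 b1 ≤ 1 ∧ R.1 (z * b1) ≤ 1 := by
      obtain ⟨b1, hb1⟩ := approx (insert Q S) (fun R => if R = Q then 1 else 0)
        (fun R => if R = Q then -1 else min 0 (R.ord z))
      have hQb : Q.1 (b1 - 1) ≤ exp (-1) := by simpa using hb1 Q (Finset.mem_insert_self _ _)
      have hQ1 : Q.1 b1 = 1 := by
        rw [show b1 = (b1 - 1) + 1 by ring, Valuation.map_add_eq_of_lt_right _ ?_, map_one]
        rw [map_one]; exact (lt_one_iff_le _).2 hQb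
      refine ⟨b1, hQ1, fun R hR => ?_⟩
      rcases eq_or_ne R Q with rfl | hne
      · exact ⟨hQ1.le, by rw [map_mul, hQ1, mul_one]; exact hz⟩
      · have h := hb1 R (Finset.mem_insert_of_mem ((hS R).2 hR))
        simp only [if_neg hne, sub_zero] at h
        refine ⟨h.trans (by rw [← exp_zero, exp_le_exp]; omega), ?_⟩
        rw [map_mul]
        rcases eq_or_ne z 0 with rfl | hz0
        · simp
        · rw [v_eq_exp R hz0]
          refine (mul_le_mul' le_rfl h).trans ?_
          rw [← exp_add, ← exp_zero, exp_le_exp]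
          omega
    have hreg2 : ∀ r : K, Int k ξ r → r * (g / d * G) ∈ coordRing k ξ η := by
      intro r hr
      rw [← mul_assoc]
      refine hdualA _ fun R hR t' ht' Ht' hHt' => ?_
      rw [mul_assoc, map_mul]
      exact (mul_le_one' (hr R hR) (hreg R hR t' ht' Ht' hHt'))
    refine ⟨z * b1 * (g / d * G), hreg2 _ fun R hR => (hb1 R hR).2, b1 * (g / d * G),
      hreg2 _ fun R hR => (hb1 R hR).1, ?_, by ring⟩
    rw [map_mul, hb1Q, one_mul, map_mul, map_div₀, hgQ, one_div, heqv, ← hQd,
      inv_mul_cancel₀ (v_ne_zero Q hd0)]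
  · intro hns
    refine le_antisymm hle ?_
    obtain ⟨a, ha, b, hb, hb1, hab⟩ := hns y (hyi Q hQ)
    have hpow : ∀ i, i ≤ m → y ^ i * b ^ m ∈ coordRing k ξ η := fun i hi => by
      rw [show y ^ i * b ^ m = (y * b) ^ i * b ^ (m - i) by
        rw [mul_pow, mul_assoc, ← pow_add, Nat.add_sub_cancel' hi]]
      exact mul_mem (pow_mem (hab ▸ ha) _) (pow_mem hb _)
    have hR : Reg k ξ (b ^ m / G) := by
      rw [← hdual]
      intro r hr
      obtain ⟨cf, hcf, hr'⟩ := hcoords r hr
      rw [show b ^ m / G * r = (b ^ m * r) / G by ring]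
      refine htrA _ ?_
      rw [hr', Finset.mul_sum]
      refine sum_mem fun i _ => ?_
      rw [show b ^ m * ((cf i : K) * y ^ (i : ℕ)) = (cf i : K) * (y ^ (i : ℕ) * b ^ m) by ring]
      exact mul_mem (coeff_mem (cf i).2 (hcf i)) (hpow _ i.2.le)
    have h := hR Q hQ t ht Ht hHt
    rw [map_mul, map_div₀, map_pow, hb1, one_pow, one_div, inv_mul_le_iff₀ (zero_lt_iff.2 (v_ne_zero Q hG0)),
      mul_one] at h
    exact h

end Groth.Agent.FunFldLib.Plane
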