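import Groth.Agent.FunFldLib.Plane.Core
import Groth.Agent.FunFldLib.Fibre.Line
import Groth.Agent.FunFldLib.Hasse.Weier
import Mathlib.Algebra.MvPolynomial.PDeriv
import Mathlib.Algebra.MvPolynomial.Nilpotent
import Mathlib.RingTheory.MvPolynomial.Basic

/-! Two charts of a plane model. -/

set_option autoImplicit false

open WithZero Polynomial
open LocRes (hasseD IsHasseFamily IsExpansionAt)

namespace Groth.Agent.FunFldLib.Plane

open FunFld Groth.Agent.FunFldLib Groth.Agent.FunFldLib.Fibre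

variable {k K : Type*} [Field k] [Field K] [Algebra k K]

theorem cmul_deg {σ : Type*} (c : k) {L : MvPolynomial σ k} (h : L.totalDegree ≤ 1) :
    (MvPolynomial.C c * L).totalDegree ≤ 1 :=
  (MvPolynomial.totalDegree_mul _ _).trans (by rw [MvPolynomial.totalDegree_C, zero_add]; exact h)

theorem add_deg {σ : Type*} {L M : MvPolynomial σ k} (h : L.totalDegree ≤ 1) (h' : M.totalDegree ≤ 1) :
    (L + M).totalDegree ≤ 1 := (MvPolynomial.totalDegree_add _ _).trans (max_le h h')

theorem sub_deg {σ : Type*} {L M : MvPolynomial σ k} (h : L.totalDegree ≤ 1) (h' : M.totalDegree ≤ 1) :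
    (L - M).totalDegree ≤ 1 := (MvPolynomial.totalDegree_sub _ _).trans (max_le h h')

theorem C_deg {σ : Type*} (c : k) : (MvPolynomial.C c : MvPolynomial σ k).totalDegree ≤ 1 := by simp

theorem X_deg {σ : Type*} (i : σ) : (MvPolynomial.X i : MvPolynomial σ k).totalDegree ≤ 1 :=
  (MvPolynomial.totalDegree_X i).le

theorem derivation_aeval {σ R : Type*} [Fintype σ] [DecidableEq σ] [CommRing R] [Algebra k R] (δ : Derivation k R R)
    (g : σ → R) (F : MvPolynomial σ k) :
    δ (MvPolynomial.aeval g F) = ∑ i, MvPolynomial.aeval g (MvPolynomial.pderiv i F) * δ (g i) := by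
  induction F using MvPolynomial.induction_on with
  | C a => simp
  | add p q hp hq => simp [hp, hq, add_mul, Finset.sum_add_distrib]
  | mul_X p i hp =>
    simp only [map_mul, MvPolynomial.aeval_X, Derivation.leibniz, hp, smul_eq_mul, map_add, add_mul,
      Finset.sum_add_distrib, Finset.mul_sum]
    congr 1
    · rw [Finset.sum_eq_single i]
      · simp
      · intro l _ hl; simp [MvPolynomial.pderiv_X_of_ne hl.symm]
      · simp
    · exact Finset.sum_congr rfl fun l _ => by ring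

variable [IsAlgClosed k]

/-- a linear form exact at all poles of the map and separating -/
theorem exists_gen (hK : IsFunctionField k K) (x y : K) (hxy : IntermediateField.adjoin k ({x, y} : Set K) = ⊤)
    (δ : Derivation k K K) (hδ : δ x ≠ 0 ∨ δ y ≠ 0) :
    ∃ (u w : K) (c₀ c₁ c₂ : k), u = algebraMap k K c₀ + algebraMap k K c₁ * x + algebraMap k K c₂ * y ∧
      ((c₂ = 0 ∧ c₁ ≠ 0 ∧ w = y) ∨ (c₂ ≠ 0 ∧ w = x)) ∧ δ u ≠ 0 ∧ Transcendental k u ∧
      IntermediateField.adjoin k ({u, w} : Set K) = ⊤ ∧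
      (degX k u : ℤ) = (mapDiv k ![(1 : K), x, y]).deg ∧
      u ∈ L (mapDiv k ![(1 : K), x, y]) ∧ w ∈ L (mapDiv k ![(1 : K), x, y]) ∧
      ∀ P : Place k K, mapDiv k ![(1 : K), x, y] P ≠ 0 → P.1 u = exp (mapDiv k ![(1 : K), x, y] P) := by
  classical
  set D := mapDiv k ![(1 : K), x, y] with hD
  have hDP := mapDiv_plane hK x y
  have hD0 : ∀ P, 0 ≤ D P := fun P => by rw [hDP]; omega
  have hL : ∀ z ∈ ({1, x, y} : Set K), z ∈ L D := by
    intro z hz P
    rcases eq_or_ne z 0 with rfl | h0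
    · simp
    rw [v_le_exp_iff P h0, hDP]
    rcases hz with rfl | rfl | rfl
    · rw [ord_one]; omega
    · omega
    · omega
  set V := Submodule.span k ({1, x, y} : Set K)
  have hVL : V ≤ L D := Submodule.span_le.2 hL
  have hex : ∀ Q ∈ D.support, ∃ z ∈ V, z ∉ L (D - Finsupp.single Q 1) := fun Q hQ => by
    have hQ0 := Finsupp.mem_support_iff.1 hQ
    have : ∀ z : K, z ∈ V → D Q = -Q.ord z → ∃ z ∈ V, z ∉ L (D - Finsupp.single Q 1) := fun z hz hzQ => by
      refine ⟨z, hz, fun hmem => ?_⟩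
      have hz0 : z ≠ 0 := fun h => hQ0 (by rw [hzQ, h]; simp [Place.ord])
      have := (mem_L_ord hz0 _).1 hmem Q
      simp at this
      omega
    rcases (show D Q = -Q.ord x ∨ D Q = -Q.ord y by rw [hDP] at hQ0 ⊢; omega) with h | h
    · exact this x (Submodule.subset_span (by simp)) h
    · exact this y (Submodule.subset_span (by simp)) h
  obtain ⟨u1, hu1V, hu1⟩ := exists_exact_in V hVL D.support hex
  -- avoid finitely many scalars
  obtain ⟨z, hzV, hδz⟩ : ∃ z ∈ V, δ z ≠ 0 := by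
    rcases hδ with h | h
    · exact ⟨x, Submodule.subset_span (by simp), h⟩
    · exact ⟨y, Submodule.subset_span (by simp), h⟩
  obtain ⟨u, huV, hu, hδu⟩ : ∃ u ∈ V, (∀ Q ∈ D.support, u ∉ L (D - Finsupp.single Q 1)) ∧ δ u ≠ 0 := by
    by_cases h : δ u1 = 0
    swap
    · exact ⟨u1, hu1V, hu1, h⟩
    have hfin : ({c : k | ∃ Q ∈ D.support, u1 + c • z ∈ L (D - Finsupp.single Q 1)} ∪ {0}).Finite := by
      refine Set.Finite.union ?_ (Set.finite_singleton 0)
      have : {c : k | ∃ Q ∈ D.support, u1 + c • z ∈ L (D - Finsupp.single Q 1)} =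
          ⋃ Q ∈ D.support, {c : k | u1 + c • z ∈ L (D - Finsupp.single Q 1)} := by ext c; simp
      rw [this]
      refine Set.Finite.biUnion D.support.finite_toSet fun Q hQ => Set.Subsingleton.finite fun c hc c' hc' => ?_
      by_contra hne
      have h1 := sub_mem (show u1 + c • z ∈ L (D - Finsupp.single Q 1) from hc) hc'
      rw [add_sub_add_left_eq_sub, ← sub_smul, Submodule.smul_mem_iff _ (sub_ne_zero.2 hne)] at h1
      have h2 := sub_mem (show u1 + c • z ∈ L (D - Finsupp.single Q 1) from hc) (Submodule.smul_mem _ c h1)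
      rw [add_sub_cancel_right] at h2
      exact hu1 Q hQ h2
    obtain ⟨c, hc⟩ := hfin.exists_notMem
    simp only [Set.mem_union, Set.mem_setOf_eq, Set.mem_singleton_iff, not_or, not_exists, not_and] at hc
    refine ⟨u1 + c • z, add_mem hu1V (Submodule.smul_mem _ _ hzV), hc.1, ?_⟩
    rw [map_add, δ.map_smul, h, zero_add]
    exact smul_ne_zero hc.2 hδz
  have hexact : ∀ P : Place k K, D P ≠ 0 → P.1 u = exp (D P) := fun P hP => by
    obtain ⟨hu0, hord⟩ := ord_eq_of_exact hK (hVL huV) (hu P (Finsupp.mem_support_iff.2 hP))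
    rw [v_eq_exp P hu0, hord, neg_neg]
  obtain ⟨c₀, c₁, c₂, hc⟩ : ∃ c₀ c₁ c₂ : k, u = algebraMap k K c₀ + algebraMap k K c₁ * x + algebraMap k K c₂ * y := by
    obtain ⟨a, z, hz, rfl⟩ := Submodule.mem_span_insert.1 huV
    obtain ⟨b, c, rfl⟩ := Submodule.mem_span_pair.1 hz
    exact ⟨a, b, c, by simp [Algebra.smul_def]; ring⟩
  have hutr : Transcendental k u := transcendental_of_not_mem hK (by
    rintro ⟨c, hcu⟩
    exact hδu (by rw [← hcu]; exact δ.map_algebraMap c))
  have hu0 : u ≠ 0 := fun h => hutr (h ▸ isAlgebraic_zero)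
  have hdeg : (degX k u : ℤ) = D.deg := by
    rw [← deg_poles_eq hK.1 hutr]
    congr 1
    refine Finsupp.ext fun Q => ?_
    simp only [Finsupp.sup_apply, Finsupp.neg_apply, div_apply hK.1, Finsupp.coe_zero, Pi.zero_apply]
    have := (mem_L_ord hu0 D).1 (hVL huV) Q
    have h0 := hD0 Q
    by_cases hQ : D Q = 0
    · omega
    · have h1 := hexact Q hQ
      rw [v_eq_exp Q hu0, exp_inj] at h1
      omega
  have hc1 : c₂ = 0 → c₁ ≠ 0 := fun h2 h1 => hδu (by rw [hc, h1, h2]; simp)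
  refine ⟨u, if c₂ = 0 then y else x, c₀, c₁, c₂, hc, ?_, hδu, hutr, ?_, hdeg, hVL huV, ?_, hexact⟩
  · by_cases h : c₂ = 0
    · exact Or.inl ⟨h, hc1 h, if_pos h⟩
    · exact Or.inr ⟨h, if_neg h⟩
  · rw [eq_top_iff, ← hxy, IntermediateField.adjoin_le_iff]
    set S := IntermediateField.adjoin k ({u, if c₂ = 0 then y else x} : Set K)
    have hu' : u ∈ S := IntermediateField.subset_adjoin k _ (by simp)
    have hw' : (if c₂ = 0 then y else x) ∈ S := IntermediateField.subset_adjoin k _ (by simp)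
    have hC : ∀ a : k, algebraMap k K a ∈ S := fun a => S.algebraMap_mem a
    by_cases h : c₂ = 0
    · rw [if_pos h] at hw'
      have hne : algebraMap k K c₁ ≠ 0 := (_root_.map_ne_zero _).2 (hc1 h)
      have hx : x = (u - algebraMap k K c₀) / algebraMap k K c₁ := by
        rw [hc, h]; field_simp; simp
      rintro z (rfl | rfl)
      · rw [hx]; exact div_mem (sub_mem hu' (hC _)) (hC _)
      · exact hw'
    · rw [if_neg h] at hw'
      have hne : algebraMap k K c₂ ≠ 0 := (_root_.map_ne_zero _).2 h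
      have hy : y = (u - algebraMap k K c₀ - algebraMap k K c₁ * x) / algebraMap k K c₂ := by
        rw [hc]; field_simp; ring
      rintro z (rfl | rfl)
      · exact hw'
      · rw [hy]; exact div_mem (sub_mem (sub_mem hu' (hC _)) (mul_mem (hC _) hw')) (hC _)
  · split_ifs
    · exact hL y (by simp)
    · exact hL x (by simp)

/-- the local ring of the map and the coordinate ring of a chart -/
theorem ns_iff (hK : IsFunctionField k K) {ι : Type*} (φ : ι → K) (P : Place k K) {ξ η s : K}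
    (hξ : Transcendental k ξ) (hP : 0 < P.ord ξ) (hs : s ≠ 0)
    (hs' : s ∈ Submodule.span k (Set.range φ)) (hξ' : ξ * s ∈ Submodule.span k (Set.range φ))
    (hη' : η * s ∈ Submodule.span k (Set.range φ))
    (hA : ∀ i, φ i / s ∈ coordRing k ξ η) (hv : ∀ i, P.1 (φ i / s) ≤ 1) (hunit : ∃ i, P.1 (φ i / s) = 1) :
    IsNonsingularAt φ P ↔
      ∀ z : K, P.1 z ≤ 1 → ∃ a ∈ coordRing k ξ η, ∃ b ∈ coordRing k ξ η, P.1 b = 1 ∧ z * b = a := by
  refine ⟨fun h z hz => loc_of_nonsingular φ P _ s hs hA hv hunit h z hz, fun h z hz => ?_⟩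
  obtain ⟨j, hj⟩ := hunit
  have hj0 : φ j ≠ 0 := fun e => by rw [e, zero_div, map_zero] at hj; exact zero_ne_one hj
  have hmax : ∀ i, P.1 (φ i) ≤ P.1 (φ j) := fun i => by
    have := hv i
    rw [map_div₀] at this hj
    rw [div_eq_one_iff_eq (v_ne_zero P hs)] at hj
    rw [hj]
    exact (div_le_one₀ (zero_lt_iff.2 (v_ne_zero P hs))).1 this
  set B := Algebra.adjoin k (Set.range fun i => φ i / φ j)
  have hB : ∀ v ∈ Submodule.span k (Set.range φ), v / φ j ∈ B := by
    intro v hv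
    induction hv using Submodule.span_induction with
    | mem x hx => obtain ⟨i, rfl⟩ := hx; exact Algebra.subset_adjoin ⟨i, rfl⟩
    | zero => rw [zero_div]; exact zero_mem _
    | add a b _ _ ha hb => rw [add_div]; exact add_mem ha hb
    | smul c a _ ha => rw [smul_div_assoc]; exact Subalgebra.smul_mem _ ha c
  let S : Subalgebra k K :=
    { carrier := {t | ∃ a ∈ B, ∃ b ∈ B, P.1 b = 1 ∧ t * b = a}
      mul_mem' := by
        rintro t t' ⟨a, ha, b, hb, hb1, hab⟩ ⟨a', ha', b', hb', hb1', hab'⟩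
        exact ⟨a * a', mul_mem ha ha', b * b', mul_mem hb hb', by rw [map_mul, hb1, hb1', one_mul],
          by rw [← hab, ← hab']; ring⟩
      add_mem' := by
        rintro t t' ⟨a, ha, b, hb, hb1, hab⟩ ⟨a', ha', b', hb', hb1', hab'⟩
        exact ⟨a * b' + a' * b, add_mem (mul_mem ha hb') (mul_mem ha' hb), b * b', mul_mem hb hb',
          by rw [map_mul, hb1, hb1', one_mul], by rw [← hab, ← hab']; ring⟩
      algebraMap_mem' := fun c => ⟨_, Subalgebra.algebraMap_mem B c, 1, one_mem B, map_one _, mul_one _⟩ }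
  have hdiv : ∀ v, v * s ∈ Submodule.span k (Set.range φ) → v ∈ S := fun v hv => by
    refine ⟨v * s / φ j, hB _ hv, s / φ j, hB _ hs', ?_, by ring⟩
    rw [show s / φ j = (φ j / s)⁻¹ by rw [inv_div], map_inv₀, hj, inv_one]
  have hle : coordRing k ξ η ≤ S := by
    refine Algebra.adjoin_le ?_
    rintro a (rfl | ⟨ha, hai⟩)
    · exact hdiv _ hη'
    · obtain ⟨N, q, hq, rfl⟩ := int_form hξ ⟨P, hP⟩ ha hai
      have hmem : ∀ p : k[X], Polynomial.aeval ξ p ∈ S := fun p =>
        Algebra.adjoin_le (S := S) (Set.singleton_subset_iff.2 (hdiv _ hξ')) (aeval_mem_adjoin_singleton k ξ)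
      obtain ⟨a1, ha1, b1, hb1, hv1, he1⟩ := hmem N
      obtain ⟨a2, ha2, b2, hb2, hv2, he2⟩ := hmem q
      have hq0 : Polynomial.aeval ξ q ≠ 0 := Fibre.aeval_ne_zero hξ (fun h => hq (by rw [h, eval_zero]))
      refine ⟨a1 * b2, mul_mem ha1 hb2, a2 * b1, mul_mem ha2 hb1, ?_, ?_⟩
      · rw [← he2, map_mul, map_mul, v_unit hq hP, hv2, hv1, one_mul, one_mul]
      · rw [← he1, ← he2]; field_simp
  obtain ⟨a, ha, b, hb, hb1, hab⟩ := h z hz
  obtain ⟨a1, ha1, b1, hb1', hv1, he1⟩ := hle ha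
  obtain ⟨a2, ha2, b2, hb2', hv2, he2⟩ := hle hb
  refine ⟨j, hj0, hmax, a1 * b2, mul_mem ha1 hb2', a2 * b1, mul_mem ha2 hb1', ?_, ?_⟩
  · rw [← he2, map_mul, map_mul, hb1, hv2, hv1, one_mul, one_mul]
  · rw [← he1, ← he2, ← hab]; ring

theorem exists_affine {x y u w : K} {c₀ c₁ c₂ : k}
    (hu : u = algebraMap k K c₀ + algebraMap k K c₁ * x + algebraMap k K c₂ * y)
    (hw : (c₂ = 0 ∧ c₁ ≠ 0 ∧ w = y) ∨ (c₂ ≠ 0 ∧ w = x)) :
    ∃ L₁ M : Fin 2 → MvPolynomial (Fin 2) k,
      (∀ i, MvPolynomial.aeval L₁ (M i) = MvPolynomial.X i) ∧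
      (∀ i, MvPolynomial.aeval M (L₁ i) = MvPolynomial.X i) ∧
      (∀ i, MvPolynomial.aeval ![x, y] (L₁ i) = ![u, w] i) ∧
      (∀ i, (L₁ i).totalDegree ≤ 1) ∧ (∀ i, (M i).totalDegree ≤ 1) ∧
      (MvPolynomial.pderiv 1 (L₁ 0) = MvPolynomial.C c₂) ∧
      ((c₂ = 0 ∧ c₁ ≠ 0 ∧ w = y ∧ MvPolynomial.pderiv 1 (L₁ 1) = 1) ∨
        (c₂ ≠ 0 ∧ w = x ∧ MvPolynomial.pderiv 1 (L₁ 1) = 0)) := by
  rcases hw with ⟨h2, h1, rfl⟩ | ⟨h2, rfl⟩
  · refine ⟨![MvPolynomial.C c₀ + MvPolynomial.C c₁ * MvPolynomial.X 0, MvPolynomial.X 1],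
      ![MvPolynomial.C c₁⁻¹ * (MvPolynomial.X 0 - MvPolynomial.C c₀), MvPolynomial.X 1],
      fun i => ?_, fun i => ?_, fun i => ?_, ?_, ?_, ?_, Or.inl ⟨h2, h1, rfl, by simp⟩⟩
    · fin_cases i
      · simp [← mul_assoc, ← MvPolynomial.C_mul, h1, MvPolynomial.algebraMap_eq]
      · simp
    · fin_cases i
      · simp [← mul_assoc, ← MvPolynomial.C_mul, h1, MvPolynomial.algebraMap_eq]
      · simp
    · fin_cases i <;> simp [hu, h2]
    · exact Fin.forall_fin_two.2 ⟨add_deg (C_deg _) (cmul_deg _ (X_deg _)), X_deg _⟩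
    · exact Fin.forall_fin_two.2 ⟨cmul_deg _ (sub_deg (X_deg _) (C_deg _)), X_deg _⟩
    · simp [h2, MvPolynomial.pderiv_C_mul, MvPolynomial.pderiv_X_of_ne (show (0 : Fin 2) ≠ 1 by decide)]
  · refine ⟨![MvPolynomial.C c₀ + MvPolynomial.C c₁ * MvPolynomial.X 0 + MvPolynomial.C c₂ * MvPolynomial.X 1,
        MvPolynomial.X 0],
      ![MvPolynomial.X 1, MvPolynomial.C c₂⁻¹ * (MvPolynomial.X 0 - MvPolynomial.C c₀ - MvPolynomial.C c₁ * MvPolynomial.X 1)],
      fun i => ?_, fun i => ?_, fun i => ?_, ?_, ?_, ?_, Or.inr ⟨h2, rfl, by simp [MvPolynomial.pderiv_X_of_ne (show (0 : Fin 2) ≠ 1 by decide)]⟩⟩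
    · fin_cases i
      · simp
      · simp [MvPolynomial.algebraMap_eq]
        rw [show ∀ A B C : MvPolynomial (Fin 2) k, A + B + C - A - B = C from fun A B C => by ring,
          ← mul_assoc, ← MvPolynomial.C_mul, inv_mul_cancel₀ h2, MvPolynomial.C_1, one_mul]
    · fin_cases i
      · simp [← mul_assoc, ← MvPolynomial.C_mul, h2, MvPolynomial.algebraMap_eq]
      · simp
    · fin_cases i <;> simp [hu]
    · exact Fin.forall_fin_two.2 ⟨add_deg (add_deg (C_deg _) (cmul_deg _ (X_deg _))) (cmul_deg _ (X_deg _)), X_deg _⟩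
    · exact Fin.forall_fin_two.2 ⟨X_deg _, cmul_deg _ (sub_deg (sub_deg (X_deg _) (C_deg _)) (cmul_deg _ (X_deg _)))⟩
    · simp [MvPolynomial.pderiv_C_mul, MvPolynomial.pderiv_X_of_ne (show (0 : Fin 2) ≠ 1 by decide)]

/-- the monic relation in two variables -/
noncomputable def monicRel {n : ℕ} (a : Fin n → k[X]) : MvPolynomial (Fin 2) k :=
  MvPolynomial.X 1 ^ n - ∑ j : Fin n, Polynomial.aeval (MvPolynomial.X 0) (a j) * MvPolynomial.X 1 ^ (j : ℕ)

theorem monicRel_eval {u w : K} {n : ℕ} (a : Fin n → k[X])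
    (hrel : w ^ n = ∑ j, Polynomial.aeval u (a j) * w ^ (j : ℕ)) :
    MvPolynomial.aeval ![u, w] (monicRel a) = 0 := by
  have hX0 : ∀ p : k[X], MvPolynomial.aeval ![u, w] (Polynomial.aeval (MvPolynomial.X 0 : MvPolynomial (Fin 2) k) p) = Polynomial.aeval u p :=
    fun p => by rw [← Polynomial.aeval_algHom_apply]; simp
  simp only [monicRel, map_sub, map_pow, map_sum, map_mul, hX0, MvPolynomial.aeval_X, Matrix.cons_val_one,
    Matrix.cons_val_zero]
  exact sub_eq_zero.2 hrel

theorem monicRel_dvd (hK : IsFunctionField k K) {u w : K} (hutr : Transcendental k u)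
    (hgen : IntermediateField.adjoin k ({u, w} : Set K) = ⊤)
    (a : Fin (degX k u) → k[X]) (hrel : w ^ degX k u = ∑ j, Polynomial.aeval u (a j) * w ^ (j : ℕ))
    (f' : MvPolynomial (Fin 2) k) (hf'0 : MvPolynomial.aeval ![u, w] f' = 0) : monicRel a ∣ f' := by
  classical
  have hP0 := monicRel_eval a hrel
  unfold monicRel at hP0 ⊢
  set P : MvPolynomial (Fin 2) k := MvPolynomial.X 1 ^ (degX k u) -
    ∑ j : Fin (degX k u), Polynomial.aeval (MvPolynomial.X 0) (a j) * MvPolynomial.X 1 ^ (j : ℕ) with hPdef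
  have hX0 : ∀ p : k[X], MvPolynomial.aeval ![u, w] (Polynomial.aeval (MvPolynomial.X 0 : MvPolynomial (Fin 2) k) p) = Polynomial.aeval u p :=
    fun p => by rw [← Polynomial.aeval_algHom_apply]; simp
  let ι : MvPolynomial (Fin 2) k →ₐ[k] k[X][X] := MvPolynomial.aeval ![Polynomial.C Polynomial.X, Polynomial.X]
  let κ : k[X][X] →+* MvPolynomial (Fin 2) k :=
    Polynomial.eval₂RingHom (Polynomial.aeval (MvPolynomial.X 0)).toRingHom (MvPolynomial.X 1)
  let ψ : k[X][X] →+* K := Polynomial.eval₂RingHom (Polynomial.aeval u).toRingHom w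
  have hκι : ∀ F, κ (ι F) = F := by
    intro F
    induction F using MvPolynomial.induction_on with
    | C c => simp [κ, ι]
    | add p q hp hq => simp only [map_add, hp, hq]
    | mul_X p i hp =>
      simp only [map_mul, hp]
      congr 1
      fin_cases i <;> simp [κ, ι]
  have hψι : ∀ F, ψ (ι F) = MvPolynomial.aeval ![u, w] F := by
    intro F
    induction F using MvPolynomial.induction_on with
    | C c => simp [ψ, ι]
    | add p q hp hq => simp only [map_add, hp, hq]
    | mul_X p i hp =>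
      simp only [map_mul, hp]
      congr 1
      fin_cases i <;> simp [ψ, ι]
  set p : k[X][X] := Polynomial.X ^ (degX k u) - ∑ j : Fin (degX k u), Polynomial.C (a j) * Polynomial.X ^ (j : ℕ) with hpdef
  have hdlt : (∑ j : Fin (degX k u), Polynomial.C (a j) * Polynomial.X ^ (j : ℕ)).degree < ((degX k u) : WithBot ℕ) :=
    lt_of_le_of_lt (degree_sum_le _ _) ((Finset.sup_lt_iff (WithBot.bot_lt_coe (degX k u))).2 fun i _ =>
      (degree_C_mul_X_pow_le _ _).trans_lt (WithBot.coe_lt_coe.2 i.2))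
  have hpm : p.Monic := monic_X_pow_sub hdlt
  have hpd : p.natDegree = (degX k u) := natDegree_eq_of_degree_eq_some (by
    rw [degree_sub_eq_left_of_degree_lt (by rwa [degree_X_pow]), degree_X_pow])
  have hκp : κ p = P := by simp [κ, p, P, Polynomial.eval₂_finsetSum]
  have hψp : ψ p = 0 := by
    have : ψ p = MvPolynomial.aeval ![u, w] P := by simp [ψ, p, P, hX0, Polynomial.eval₂_finsetSum]
    rw [this, hP0]
  set r := ι f' %ₘ p
  have hψr : ψ r = 0 := by
    have h := congrArg ψ (modByMonic_add_div (ι f') p)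
    rw [map_add, map_mul, hψp, zero_mul, add_zero, hψι, hf'0] at h
    exact h
  have hr : r = 0 := by
    have hn0 : 0 < (degX k u) := by
      have := finite_over hK.1 hutr
      exact Module.finrank_pos
    have hlt : r.natDegree < (degX k u) := hpd ▸ natDegree_modByMonic_lt _ hpm (fun h => by rw [h, natDegree_one] at hpd; omega)
    have h0 := indep_pows hK hutr hgen (fun j => r.coeff (j : ℕ)) (by
      rw [Fin.sum_univ_eq_sum_range (fun j => Polynomial.aeval u (r.coeff j) * w ^ j), ← hψr]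
      show _ = Polynomial.eval₂ _ w r
      rw [Polynomial.eval₂_eq_sum_range' _ hlt]
      rfl)
    ext1 i
    rcases lt_or_ge i (degX k u) with h | h
    · simpa using h0 ⟨i, h⟩
    · rw [coeff_eq_zero_of_natDegree_lt (hlt.trans_le h), coeff_zero]
  refine ⟨κ (ι f' /ₘ p), ?_⟩
  have h := congrArg κ (modByMonic_add_div (ι f') p)
  rw [show ι f' %ₘ p = 0 from hr, zero_add, map_mul, hκp, hκι] at h
  exact h.symm

/-- the irreducible relation against the monic one -/
theorem rel_eq (hK : IsFunctionField k K) {x y u w : K} {c₀ c₁ c₂ : k}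
    (hu : u = algebraMap k K c₀ + algebraMap k K c₁ * x + algebraMap k K c₂ * y)
    (hw : (c₂ = 0 ∧ c₁ ≠ 0 ∧ w = y) ∨ (c₂ ≠ 0 ∧ w = x)) (hutr : Transcendental k u)
    (hgen : IntermediateField.adjoin k ({u, w} : Set K) = ⊤)
    (a : Fin (degX k u) → k[X]) (hrel : w ^ degX k u = ∑ j, Polynomial.aeval u (a j) * w ^ (j : ℕ))
    (f : MvPolynomial (Fin 2) k) (hf : Irreducible f) (hfxy : MvPolynomial.aeval ![x, y] f = 0) :
    ∃ μ : k, μ ≠ 0 ∧ ∀ δ : Derivation k K K,
      δ x * dRel w (fun j => Polynomial.aeval u (a j)) =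
        algebraMap k K μ * δ u * MvPolynomial.aeval ![x, y] (MvPolynomial.pderiv 1 f) := by
  classical
  -- the affine change of coordinates and its inverse
  obtain ⟨L₁, M, hML, hLM, hLv, -, -, hL1, hcase⟩ := exists_affine hu hw
  let e : MvPolynomial (Fin 2) k ≃ₐ[k] MvPolynomial (Fin 2) k :=
    AlgEquiv.ofAlgHom (MvPolynomial.aeval M) (MvPolynomial.aeval L₁)
      (MvPolynomial.algHom_ext fun i => by rw [AlgHom.comp_apply, MvPolynomial.aeval_X]; exact hLM i)
      (MvPolynomial.algHom_ext fun i => by rw [AlgHom.comp_apply, MvPolynomial.aeval_X]; exact hML i)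
  set f' := MvPolynomial.aeval M f with hf'
  have hf'i : Irreducible f' := (MulEquiv.irreducible_iff e.toMulEquiv).2 hf
  have hff : MvPolynomial.aeval L₁ f' = f := by
    rw [hf', ← AlgHom.comp_apply, MvPolynomial.comp_aeval, show (fun i => MvPolynomial.aeval L₁ (M i)) = MvPolynomial.X from funext hML]
    exact MvPolynomial.aeval_X_left_apply f
  have hcomp : ∀ F : MvPolynomial (Fin 2) k,
      MvPolynomial.aeval ![x, y] (MvPolynomial.aeval L₁ F) = MvPolynomial.aeval ![u, w] F := fun F => by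
    rw [← AlgHom.comp_apply, MvPolynomial.comp_aeval,
      show (fun i => MvPolynomial.aeval ![x, y] (L₁ i)) = ![u, w] from funext hLv]
  have hf'0 : MvPolynomial.aeval ![u, w] f' = 0 := by rw [← hcomp, hff, hfxy]
  -- the monic relation
  set P : MvPolynomial (Fin 2) k := MvPolynomial.X 1 ^ (degX k u) -
    ∑ j : Fin (degX k u), Polynomial.aeval (MvPolynomial.X 0) (a j) * MvPolynomial.X 1 ^ (j : ℕ) with hPdef
  have hX0 : ∀ p : k[X], MvPolynomial.aeval ![u, w] (Polynomial.aeval (MvPolynomial.X 0 : MvPolynomial (Fin 2) k) p) = Polynomial.aeval u p :=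
    fun p => by rw [← Polynomial.aeval_algHom_apply]; simp
  have hP0 : MvPolynomial.aeval ![u, w] P = 0 := by
    simp only [P, map_sub, map_pow, map_sum, map_mul, hX0, MvPolynomial.aeval_X, Matrix.cons_val_one,
      Matrix.cons_val_zero]
    exact sub_eq_zero.2 hrel
  have hdvd : P ∣ f' := monicRel_dvd hK hutr hgen a hrel f' hf'0
  obtain ⟨h, hh⟩ := hdvd
  have hhu : IsUnit h := by
    rcases hf'i.isUnit_or_isUnit hh with hu' | hu'
    · exact absurd (hu'.map (MvPolynomial.aeval ![u, w])) (by rw [hP0]; exact not_isUnit_zero)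
    · exact hu'
  obtain ⟨lam, hlam, rfl⟩ := MvPolynomial.isUnit_iff_eq_C_of_isReduced.1 hhu
  have hl : algebraMap k K lam ≠ 0 := (_root_.map_ne_zero _).2 hlam.ne_zero
  set G := dRel w (fun j => Polynomial.aeval u (a j))
  set U := MvPolynomial.aeval ![u, w] (MvPolynomial.pderiv 0 P)
  have hPW : MvPolynomial.aeval ![u, w] (MvPolynomial.pderiv 1 P) = G := by
    have hz : ∀ p : k[X], MvPolynomial.pderiv 1 (Polynomial.aeval (MvPolynomial.X 0 : MvPolynomial (Fin 2) k) p) = 0 := fun p => by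
      rw [Derivation.map_aeval, MvPolynomial.pderiv_X_of_ne (show (0 : Fin 2) ≠ 1 by decide), smul_zero]
    simp only [P, map_sub, map_sum, Derivation.leibniz, Derivation.leibniz_pow, hz, MvPolynomial.pderiv_X_self,
      smul_eq_mul, nsmul_eq_mul, mul_zero, add_zero, mul_one, map_mul, map_natCast, map_pow, hX0, MvPolynomial.aeval_X,
      Matrix.cons_val_one, Matrix.cons_val_zero, G, dRel]
  have hfy : MvPolynomial.aeval ![x, y] (MvPolynomial.pderiv 1 f) =
      algebraMap k K lam * (U * algebraMap k K c₂ +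
        G * MvPolynomial.aeval ![x, y] (MvPolynomial.pderiv 1 (L₁ 1))) := by
    conv_lhs => rw [← hff]
    rw [derivation_aeval (MvPolynomial.pderiv 1), map_sum, Fin.sum_univ_two, map_mul, map_mul, hcomp, hcomp,
      hL1, hh, MvPolynomial.pderiv_mul, MvPolynomial.pderiv_mul]
    simp only [MvPolynomial.pderiv_C, mul_zero, add_zero, map_mul, MvPolynomial.aeval_C, hPW]
    ring
  have hchain : ∀ δ : Derivation k K K, U * δ u + G * δ w = 0 := fun δ => by
    have h := derivation_aeval δ ![u, w] P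
    rw [hP0, map_zero, Fin.sum_univ_two, hPW] at h
    simpa using h.symm
  rcases hcase with ⟨h2, h1, hwy, hd⟩ | ⟨h2, hwx, hd⟩
  · refine ⟨(c₁ * lam)⁻¹, inv_ne_zero (mul_ne_zero h1 hlam.ne_zero), fun δ => ?_⟩
    have hc1 : algebraMap k K c₁ ≠ 0 := (_root_.map_ne_zero _).2 h1
    rw [hfy, hd, map_one, h2, map_zero, mul_zero, zero_add, mul_one,
      show δ u = algebraMap k K c₁ * δ x by
        rw [hu, h2, map_add, map_add, δ.map_algebraMap, δ.leibniz, δ.map_algebraMap, map_zero, zero_mul]; simp,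
      map_inv₀, map_mul]
    field_simp
  · refine ⟨-(c₂ * lam)⁻¹, neg_ne_zero.2 (inv_ne_zero (mul_ne_zero h2 hlam.ne_zero)), fun δ => ?_⟩
    have hc2 : algebraMap k K c₂ ≠ 0 := (_root_.map_ne_zero _).2 h2
    rw [hfy, hd, map_zero, mul_zero, add_zero, ← hwx, map_neg, map_inv₀, map_mul]
    field_simp
    linear_combination (hchain δ)

/-- the coefficient of the adjoint divisor in the monic coordinates -/
theorem chart_coeff (hK : IsFunctionField k K) {x y u w : K} {c₀ c₁ c₂ : k}
    (hu : u = algebraMap k K c₀ + algebraMap k K c₁ * x + algebraMap k K c₂ * y)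
    (hw : (c₂ = 0 ∧ c₁ ≠ 0 ∧ w = y) ∨ (c₂ ≠ 0 ∧ w = x)) (hutr : Transcendental k u)
    (hgen : IntermediateField.adjoin k ({u, w} : Set K) = ⊤)
    (huL : u ∈ L (mapDiv k ![(1 : K), x, y])) (hwL : w ∈ L (mapDiv k ![(1 : K), x, y]))
    (hexact : ∀ P : Place k K, mapDiv k ![(1 : K), x, y] P ≠ 0 → P.1 u = exp (mapDiv k ![(1 : K), x, y] P))
    {n : ℕ} (hn : n = degX k u) (a : Fin n → k[X]) (ha : w ^ n = ∑ j, Polynomial.aeval u (a j) * w ^ (j : ℕ))
    (Q : Place k K) {t : K} (ht : Q.1 t = exp (-1)) {Ht : K →ₐ[k] PowerSeries K} (hHt : IsHasseFamily t Ht)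
    (hδu0 : hasseD Ht 1 u ≠ 0) :
    dRel w (fun j => Polynomial.aeval u (a j)) ≠ 0 ∧
    0 ≤ ((n : ℤ) - 3) * mapDiv k ![(1 : K), x, y] Q -
      (Q.ord (hasseD Ht 1 u) - Q.ord (dRel w (fun j => Polynomial.aeval u (a j)))) ∧
    (((n : ℤ) - 3) * mapDiv k ![(1 : K), x, y] Q -
        (Q.ord (hasseD Ht 1 u) - Q.ord (dRel w (fun j => Polynomial.aeval u (a j)))) = 0 ↔
      IsNonsingularAt ![(1 : K), x, y] Q) := by
  classical
  set δ := Hasse.deriv hHt with hδ
  have hδu : δ u ≠ 0 := hδu0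
  rw [← Hasse.deriv_apply hHt, ← hδ]
  set D := mapDiv k ![(1 : K), x, y] with hD
  have hDP := mapDiv_plane hK x y
  have hD0 : ∀ P, 0 ≤ D P := fun P => by rw [hD, hDP]; omega
  have hu0 : u ≠ 0 := fun h => hutr (h ▸ isAlgebraic_zero)
  have hufin : ∀ P : Place k K, P.1 u ≤ 1 ↔ D P = 0 := fun P => by
    refine ⟨fun h => ?_, fun h => (huL P).trans (by rw [h, exp_zero])⟩
    by_contra hne
    rw [hexact P hne, ← exp_zero, exp_le_exp] at h
    have := hD0 P
    omega
  have hwu : ∀ P : Place k K, 1 ≤ P.1 u → P.1 (w / u) ≤ 1 := fun P h => by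
    rw [map_div₀, div_le_one₀ (zero_lt_iff.2 (v_ne_zero P hu0))]
    refine (hwL P).trans ?_
    by_cases h0 : D P = 0
    · rw [h0, exp_zero]; exact h
    · rw [hexact P h0]
  have hreg : ∀ P : Place k K, P.1 u ≤ 1 → P.1 w ≤ 1 := fun P h =>
    (hwL P).trans (by rw [(hufin P).1 h, exp_zero])
  have hn0 : 0 < n := by
    have := finite_over hK.1 hutr
    rw [hn]; exact Module.finrank_pos
  set G := dRel w (fun j => Polynomial.aeval u (a j)) with hG
  have hG0 : G ≠ 0 := by
    obtain ⟨hG1, -⟩ := derivative_minpoly hK hutr hgen hn (c := fun j => Polynomial.aeval u (a j))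
      (fun j => Fibre.poly_mem u (a j)) ha
    have hsep : (minpoly (IntermediateField.adjoin k ({u} : Set K)) w).Separable := by
      have := finite_over hK.1 hutr
      obtain ⟨-, -, -, -, -, -, -, hsep, -⟩ := exists_local hK hutr hHt (show hasseD Ht 1 u ≠ 0 from hδu)
      exact Algebra.IsSeparable.isSeparable _ w
    rw [hG, ← hG1]
    exact hsep.aeval_derivative_ne_zero (minpoly.aeval _ _)
  refine ⟨hG0, ?_⟩
  have hspan : ∀ c : k, (algebraMap k K c) ∈ Submodule.span k (Set.range ![(1 : K), x, y]) := fun c => by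
    rw [Algebra.algebraMap_eq_smul_one]
    exact Submodule.smul_mem _ _ (Submodule.subset_span ⟨0, rfl⟩)
  have huS : u ∈ Submodule.span k (Set.range ![(1 : K), x, y]) := by
    rw [hu, ← Algebra.smul_def, ← Algebra.smul_def]
    exact add_mem (add_mem (hspan _) (Submodule.smul_mem _ _ (Submodule.subset_span ⟨1, rfl⟩)))
      (Submodule.smul_mem _ _ (Submodule.subset_span ⟨2, rfl⟩))
  have hwS : w ∈ Submodule.span k (Set.range ![(1 : K), x, y]) := by
    rcases hw with ⟨-, -, rfl⟩ | ⟨-, rfl⟩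
    · exact Submodule.subset_span ⟨2, rfl⟩
    · exact Submodule.subset_span ⟨1, rfl⟩
  have hphi : ∀ (A : Submodule k K), (1 : K) ∈ A → u ∈ A → w ∈ A → ∀ i, ![(1 : K), x, y] i ∈ A := by
    intro A h1 hu' hw' i
    have hC : ∀ c : k, algebraMap k K c ∈ A := fun c => by
      rw [Algebra.algebraMap_eq_smul_one]; exact A.smul_mem c h1
    rcases hw with ⟨h2, hc1, rfl⟩ | ⟨h2, rfl⟩
    · have hx' : x = c₁⁻¹ • (u - algebraMap k K c₀) := by
        rw [hu, h2, Algebra.smul_def, map_inv₀]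
        have : algebraMap k K c₁ ≠ 0 := (_root_.map_ne_zero _).2 hc1
        field_simp; simp
      fin_cases i
      · exact h1
      · show x ∈ A
        rw [hx']; exact A.smul_mem _ (sub_mem hu' (hC _))
      · exact hw'
    · have hy' : y = c₂⁻¹ • (u - algebraMap k K c₀ - c₁ • w) := by
        rw [hu, Algebra.smul_def, Algebra.smul_def, map_inv₀]
        have : algebraMap k K c₂ ≠ 0 := (_root_.map_ne_zero _).2 h2
        field_simp; ring
      fin_cases i
      · exact h1
      · exact hw'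
      · show y ∈ A
        rw [hy']; exact A.smul_mem _ (sub_mem (sub_mem hu' (hC _)) (A.smul_mem _ hw'))
  have hmax : ∀ i, Q.1 (![(1 : K), x, y] i) ≤ exp (D Q) := fun i => by
    have hi : -Q.ord (![(1 : K), x, y] i) ≤ D Q := by
      rw [hD, hDP]
      fin_cases i <;> simp [ord_one] <;> omega
    rcases eq_or_ne (![(1 : K), x, y] i) 0 with h | h
    · rw [h]; simp
    · rw [v_le_exp_iff Q h]; omega
  have hhit : ∃ i, Q.1 (![(1 : K), x, y] i) = exp (D Q) := by
    by_contra hcon
    push Not at hcon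
    let A : Submodule k K :=
      { carrier := {z | Q.1 z < exp (D Q)}
        add_mem' := fun ha hb => (Q.1.map_add _ _).trans_lt (max_lt ha hb)
        zero_mem' := by simp
        smul_mem' := fun c z hz => (smul_le Q c z).trans_lt hz }
    have hAspan : Submodule.span k (Set.range ![(1 : K), x, y]) ≤ A :=
      Submodule.span_le.2 (Set.range_subset_iff.2 fun i => lt_of_le_of_ne (hmax i) (hcon i))
    rcases eq_or_ne (D Q) 0 with h | h
    · have h1 : Q.1 (1 : K) < exp (D Q) := hAspan (Submodule.subset_span ⟨0, rfl⟩)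
      rw [map_one, h, exp_zero] at h1
      exact lt_irrefl _ h1
    · have h1 : Q.1 u < exp (D Q) := hAspan huS
      rw [hexact Q h] at h1
      exact lt_irrefl _ h1
  rcases eq_or_ne (D Q) 0 with hQ0 | hQ0
  · -- finite chart
    obtain ⟨c, hc⟩ := exists_res hK Q ((hufin Q).2 hQ0)
    set ξ := u - algebraMap k K c with hξdef
    have hξtr : Transcendental k ξ := trans_shift hutr c
    have hξ0 : ξ ≠ 0 := fun h => hξtr (h ▸ isAlgebraic_zero)
    have hQξ : 0 < Q.ord ξ := (v_lt_one_iff Q hξ0).1 hc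
    have hFw : IntermediateField.adjoin k ({ξ} : Set K) = IntermediateField.adjoin k ({u} : Set K) :=
      adjoin_shift u c
    have hgen' : IntermediateField.adjoin k ({ξ, w} : Set K) = ⊤ := by
      rw [eq_top_iff, ← hgen, IntermediateField.adjoin_le_iff]
      have h1 : ξ ∈ IntermediateField.adjoin k ({ξ, w} : Set K) := IntermediateField.subset_adjoin k _ (by simp)
      rintro z (rfl | rfl)
      · have := add_mem h1 (IntermediateField.algebraMap_mem _ c)
        rwa [hξdef, sub_add_cancel] at this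
      · exact IntermediateField.subset_adjoin k _ (by simp)
    have hue : ∀ R : Place k K, 0 < R.ord ξ → R.1 u ≤ 1 := fun R hR => by
      rw [show u = ξ + algebraMap k K c by rw [hξdef]; ring]
      exact (R.1.map_add _ _).trans (max_le (v_w_lt hR).le (R.2.1 c))
    have hδξ : δ ξ = δ u := by rw [hξdef, map_sub, δ.map_algebraMap, sub_zero]
    have hne : hasseD Ht 1 ξ ≠ 0 := by rw [← Hasse.deriv_apply hHt, ← hδ, hδξ]; exact hδu
    have hcore := core hK hξtr hgen' (n := n) (c := fun j => Polynomial.aeval u (a j))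
      (by rw [hn, degX, degX, hFw]) (fun j => hFw ▸ Fibre.poly_mem u (a j)) ha
      (fun j R hR => v_aeval_le R (hue R hR) (a j)) (fun R hR => hreg R (hue R hR)) hHt hne Q hQξ ht hHt
    have hns := ns_iff hK ![(1 : K), x, y] Q (η := w) hξtr hQξ one_ne_zero (Submodule.subset_span ⟨0, rfl⟩)
      (by rw [mul_one, hξdef]; exact sub_mem huS (hspan c)) (by rwa [mul_one])
      (fun i => by
        rw [div_one]
        refine hphi (Subalgebra.toSubmodule (coordRing k ξ w)) (coordRing k ξ w).one_mem ?_ (eta_mem _ _) i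
        show u ∈ coordRing k ξ w
        have h1 : ξ ∈ coordRing k ξ w := coeff_mem (IntermediateField.mem_adjoin_simple_self k ξ) Int.self
        have := add_mem h1 (Subalgebra.algebraMap_mem (coordRing k ξ w) c)
        rwa [hξdef, sub_add_cancel] at this)
      (fun i => by rw [div_one]; exact (hmax i).trans_eq (by rw [hQ0, exp_zero]))
      ⟨0, by simp⟩
    obtain ⟨-, hle, hiff⟩ := hcore
    rw [← Hasse.deriv_apply hHt, ← hδ, hδξ, v_eq_exp Q hδu, v_eq_exp Q hG0] at hle hiff
    rw [exp_le_exp] at hle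
    rw [exp_inj] at hiff
    rw [hns, ← hiff, hQ0, mul_zero]
    constructor
    · omega
    · constructor <;> intro h <;> omega
  · -- chart at infinity
    have hvu := hexact Q hQ0
    set ξ := u⁻¹ with hξdef
    have hξtr : Transcendental k ξ := transcendental_inv hK.1 hutr
    have hu1 : 1 ≤ Q.1 u := by rw [hvu, ← exp_zero, exp_le_exp]; exact hD0 Q
    have hordu : Q.ord u = -D Q := by
      have := v_eq_exp Q hu0
      rw [hvu, exp_inj] at this; omega
    have hQξ : 0 < Q.ord ξ := by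
      rw [hξdef, ord_inv, hordu]; have := hD0 Q; omega
    have hFw : IntermediateField.adjoin k ({ξ} : Set K) = IntermediateField.adjoin k ({u} : Set K) := adjoin_inv u
    have hgen' : IntermediateField.adjoin k ({ξ, w / u} : Set K) = ⊤ := by
      rw [eq_top_iff, ← hgen, IntermediateField.adjoin_le_iff]
      have h1 : ξ ∈ IntermediateField.adjoin k ({ξ, w / u} : Set K) := IntermediateField.subset_adjoin k _ (by simp)
      have h2 : w / u ∈ IntermediateField.adjoin k ({ξ, w / u} : Set K) := IntermediateField.subset_adjoin k _ (by simp)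
      rintro z (rfl | rfl)
      · simpa [hξdef] using inv_mem h1
      · have := mul_mem h2 (inv_mem h1)
        rwa [hξdef, inv_inv, div_mul_cancel₀ _ hu0] at this
    have hdξ : n = degX k ξ := by rw [hn, hξdef, degX_inv]
    have hregB : ∀ P : Place k K, P.1 ξ ≤ 1 → P.1 (w / u) ≤ 1 := fun P h => by
      rw [hξdef, map_inv₀, inv_le_one₀ (zero_lt_iff.2 (v_ne_zero P hu0))] at h
      exact hwu P h
    obtain ⟨b, hb⟩ : ∃ b : Fin n → k[X], (w / u) ^ n = ∑ j, Polynomial.aeval ξ (b j) * (w / u) ^ (j : ℕ) := by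
      rw [hdξ]
      exact mem_span_pows hK hξtr hgen' hregB (pow_mem (Algebra.subset_adjoin (by simp)) _)
    set c' : Fin n → K := fun j => Polynomial.aeval ξ (b j) * u ^ (n - (j : ℕ)) with hc'
    have hc'mem : ∀ j, c' j ∈ IntermediateField.adjoin k ({u} : Set K) := fun j =>
      mul_mem (hFw ▸ Fibre.poly_mem ξ (b j)) (pow_mem (IntermediateField.mem_adjoin_simple_self k u) _)
    have hrel' : w ^ n = ∑ j : Fin n, c' j * w ^ (j : ℕ) := by
      have h := congrArg (fun z => z * u ^ n) hb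
      simp only [Finset.sum_mul] at h
      rw [← mul_pow, div_mul_cancel₀ _ hu0] at h
      rw [h]
      refine Finset.sum_congr rfl fun j _ => ?_
      rw [hc', div_pow]
      have hp : u ^ n = u ^ (n - (j : ℕ)) * u ^ (j : ℕ) := by rw [← pow_add, Nat.sub_add_cancel j.2.le]
      rw [hp]
      field_simp
    have hG' : G = dRel w c' :=
      ((derivative_minpoly hK hutr hgen hn (c := fun j => Polynomial.aeval u (a j))
        (fun j => Fibre.poly_mem u (a j)) ha).1.symm).trans (derivative_minpoly hK hutr hgen hn hc'mem hrel').1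
    obtain ⟨Gi, hGi⟩ : ∃ Gi, Gi = dRel (w / u) (fun j => Polynomial.aeval ξ (b j)) := ⟨_, rfl⟩
    have hscale : G = u ^ (n - 1) * Gi := by
      rw [hG', hGi, dRel, dRel, mul_sub, Finset.mul_sum]
      congr 1
      · rw [div_pow, mul_left_comm, mul_div_cancel₀ _ (pow_ne_zero _ hu0)]
      · refine Finset.sum_congr rfl fun j _ => ?_
        rcases Nat.eq_zero_or_pos (j : ℕ) with h0 | h0
        · simp [h0]
        · rw [hc', div_pow]
          have hp : u ^ (n - 1) = u ^ (n - (j : ℕ)) * u ^ ((j : ℕ) - 1) := by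
            rw [← pow_add]; congr 1; omega
          rw [hp]
          field_simp
    have hδξ : δ ξ = -(δ u) * ξ ^ 2 := by
      rw [hξdef, δ.leibniz_inv, smul_eq_mul, inv_pow]; ring
    have hξ0 : ξ ≠ 0 := inv_ne_zero hu0
    have hδξ0 : δ ξ ≠ 0 := by rw [hδξ]; exact mul_ne_zero (neg_ne_zero.2 hδu) (pow_ne_zero _ hξ0)
    have hne : hasseD Ht 1 ξ ≠ 0 := hδξ0
    have hcore := core hK hξtr hgen' hdξ (c := fun j => Polynomial.aeval ξ (b j))
      (fun j => Fibre.poly_mem ξ (b j)) hb (fun j => Int.poly (b j))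
      (fun R hR => hregB R (v_w_lt hR).le) hHt hne Q hQξ ht hHt
    obtain ⟨hGi0, hle, hiff⟩ := hcore
    rw [← hGi] at hGi0 hle hiff
    have hns := ns_iff hK ![(1 : K), x, y] Q (η := w / u) hξtr hQξ hu0 huS
      (by rw [hξdef, inv_mul_cancel₀ hu0]; exact Submodule.subset_span ⟨0, rfl⟩)
      (by rwa [div_mul_cancel₀ _ hu0])
      (fun i => by
        refine hphi ((Subalgebra.toSubmodule (coordRing k ξ (w / u))).comap (LinearMap.mulRight k u⁻¹)) ?_ ?_ ?_ i
          |> fun h => (div_eq_mul_inv (![(1 : K), x, y] i) u).symm ▸ h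
        · show (1 : K) * u⁻¹ ∈ coordRing k ξ (w / u)
          rw [one_mul]
          exact coeff_mem (IntermediateField.mem_adjoin_simple_self k ξ) Int.self
        · show u * u⁻¹ ∈ coordRing k ξ (w / u)
          rw [mul_inv_cancel₀ hu0]; exact one_mem _
        · show w * u⁻¹ ∈ coordRing k ξ (w / u)
          rw [← div_eq_mul_inv]; exact eta_mem _ _)
      (fun i => by
        rw [map_div₀, hvu, div_le_one₀ (zero_lt_iff.2 exp_ne_zero)]
        exact hmax i)
      (by
        obtain ⟨i, hi⟩ := hhit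
        exact ⟨i, by rw [map_div₀, hvu, hi, div_self exp_ne_zero]⟩)
    rw [← Hasse.deriv_apply hHt, ← hδ, v_eq_exp Q hδξ0, v_eq_exp Q hGi0] at hle hiff
    rw [exp_le_exp] at hle
    rw [exp_inj] at hiff
    have hoξ : Q.ord (δ ξ) = Q.ord (δ u) + 2 * D Q := by
      rw [hδξ, neg_mul, show Q.ord (-(δ u * ξ ^ 2)) = Q.ord (δ u * ξ ^ 2) by simp [Place.ord, Valuation.map_neg],
        ord_mul Q hδu (pow_ne_zero _ hξ0), ord_pow Q hξ0, hξdef, ord_inv, hordu]
      push_cast; ring
    have hoG : Q.ord G = Q.ord Gi - ((n : ℤ) - 1) * D Q := by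
      rw [hscale, ord_mul Q (pow_ne_zero _ hu0) hGi0, ord_pow Q hu0, hordu, Nat.cast_sub hn0]
      push_cast; ring
    rw [hns, ← hiff, hoG]
    have e : ((n : ℤ) - 3) * D Q - (Q.ord (δ u) - (Q.ord Gi - ((n : ℤ) - 1) * D Q)) =
        Q.ord Gi - Q.ord (δ ξ) := by rw [hoξ]; ring
    rw [e]
    constructor
    · omega
    · constructor <;> intro h <;> omega


/-- the adjoint divisor is effective, and vanishes exactly on the nonsingular part -/
theorem adjoint_coeff (hK : IsFunctionField k K) (x y : K)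
    (hxy : IntermediateField.adjoin k ({x, y} : Set K) = ⊤)
    (f : MvPolynomial (Fin 2) k) (hf : Irreducible f) (hfxy : MvPolynomial.aeval ![x, y] f = 0)
    (Q : Place k K) {t : K} (ht : Q.1 t = exp (-1)) {Ht : K →ₐ[k] PowerSeries K} (hHt : IsHasseFamily t Ht)
    (hfy : MvPolynomial.aeval ![x, y] (MvPolynomial.pderiv 1 f) ≠ 0) (hx : hasseD Ht 1 x ≠ 0) :
    0 ≤ ((mapDiv k ![(1 : K), x, y]).deg - 3) * mapDiv k ![(1 : K), x, y] Q -
      Q.ord ((MvPolynomial.aeval ![x, y] (MvPolynomial.pderiv 1 f))⁻¹ * hasseD Ht 1 x) ∧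
    (((mapDiv k ![(1 : K), x, y]).deg - 3) * mapDiv k ![(1 : K), x, y] Q -
        Q.ord ((MvPolynomial.aeval ![x, y] (MvPolynomial.pderiv 1 f))⁻¹ * hasseD Ht 1 x) = 0 ↔
      IsNonsingularAt ![(1 : K), x, y] Q) := by
  classical
  set δ := Hasse.deriv hHt with hδ
  have hδx : δ x ≠ 0 := hx
  obtain ⟨u, w, c₀, c₁, c₂, hu, hw, hδu, hutr, hgen, hdeg, huL, hwL, hexact⟩ := exists_gen hK x y hxy δ (Or.inl hδx)
  obtain ⟨a, ha⟩ := mem_span_pows hK hutr hgen (fun P h => (hwL P).trans (by
      have h0 : 0 ≤ mapDiv k ![(1 : K), x, y] P := by rw [mapDiv_plane hK]; omega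
      by_contra hcon
      push Not at hcon
      rw [← exp_zero, exp_lt_exp] at hcon
      rw [hexact P (by omega), ← exp_zero, exp_le_exp] at h
      omega)) (f := w ^ degX k u) (pow_mem (Algebra.subset_adjoin (by simp)) _)
  obtain ⟨μ, hμ, hμd⟩ := rel_eq hK hu hw hutr hgen a ha f hf hfxy
  have hδu' : hasseD Ht 1 u ≠ 0 := hδu
  obtain ⟨hG0, hres⟩ := chart_coeff hK hu hw hutr hgen huL hwL hexact rfl a ha Q ht hHt hδu'
  set G := dRel w (fun j => Polynomial.aeval u (a j)) with hG
  have hk := hμd δ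
  have hord : Q.ord ((MvPolynomial.aeval ![x, y] (MvPolynomial.pderiv 1 f))⁻¹ * hasseD Ht 1 x) =
      Q.ord (hasseD Ht 1 u) - Q.ord G := by
    have h := congrArg Q.ord hk
    rw [ord_mul Q hδx hG0, ord_mul Q (mul_ne_zero ((_root_.map_ne_zero _).2 hμ) hδu) hfy,
      ord_mul Q ((_root_.map_ne_zero _).2 hμ) hδu, ord_algebraMap] at h
    rw [ord_mul Q (inv_ne_zero hfy) hx, ord_inv, ← Hasse.deriv_apply hHt, ← Hasse.deriv_apply hHt, ← hδ]
    omega
  rw [hord, ← hdeg]
  exact hres

end Groth.Agent.FunFldLib.Plane
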