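import Groth.Agent.FunFldLib.Plane.Model
import Groth.Agent.FunFldLib.Hasse.Exists
import Mathlib.RingTheory.MvPolynomial.Homogeneous

/-! The irreducible relation of a plane model. -/

set_option autoImplicit false

open WithZero Polynomial
open LocRes (hasseD IsHasseFamily)

namespace Groth.Agent.FunFldLib.Plane

open FunFld Groth.Agent.FunFldLib Groth.Agent.FunFldLib.Fibre

variable {k K : Type*} [Field k] [Field K] [Algebra k K]

/-- a substitution of degree at most one does not raise the degree -/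
theorem totalDegree_subst_le {σ τ : Type*} (M : σ → MvPolynomial τ k) (hM : ∀ i, (M i).totalDegree ≤ 1)
    (F : MvPolynomial σ k) : (MvPolynomial.aeval M F).totalDegree ≤ F.totalDegree := by
  rw [F.as_sum, map_sum]
  refine MvPolynomial.totalDegree_finsetSum_le fun d hd => ?_
  rw [← F.as_sum]
  rw [MvPolynomial.aeval_monomial]
  refine (MvPolynomial.totalDegree_mul _ _).trans ?_
  rw [MvPolynomial.algebraMap_eq, MvPolynomial.totalDegree_C, zero_add]
  refine le_trans ?_ (MvPolynomial.le_totalDegree hd)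
  refine (MvPolynomial.totalDegree_finsetProd _ _).trans ?_
  exact Finset.sum_le_sum fun i _ => (MvPolynomial.totalDegree_pow _ _).trans
    ((Nat.mul_le_mul_left _ (hM i)).trans (by rw [mul_one]))

theorem natDegree_subst_le {σ : Type*} (g : σ → k[X]) (hg : ∀ i, (g i).natDegree ≤ 1) (F : MvPolynomial σ k) :
    (MvPolynomial.aeval g F).natDegree ≤ F.totalDegree := by
  rw [F.as_sum, map_sum]
  refine Polynomial.natDegree_sum_le_of_forall_le _ _ fun d hd => ?_
  rw [← F.as_sum, MvPolynomial.aeval_monomial, Polynomial.algebraMap_eq]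
  refine (Polynomial.natDegree_C_mul_le _ _).trans (le_trans ?_ (MvPolynomial.le_totalDegree hd))
  refine (Polynomial.natDegree_prod_le _ _).trans ?_
  exact Finset.sum_le_sum fun i _ => Polynomial.natDegree_pow_le.trans
    ((Nat.mul_le_mul_left _ (hg i)).trans (by rw [mul_one]))

theorem v_aeval_gt {x : K} {Q : Place k K} (hQ : 1 < Q.1 x) {p : k[X]} (hp : p ≠ 0) :
    Q.1 (aeval x p) = Q.1 x ^ p.natDegree := by
  have hc : Q.1 (algebraMap k K p.leadingCoeff) = 1 := v_algebraMap Q (leadingCoeff_ne_zero.2 hp)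
  rw [aeval_eq_sum_range, Finset.sum_range_succ, Valuation.map_add_eq_of_lt_right _ ?_]
  · rw [Algebra.smul_def, map_mul, map_pow, ← leadingCoeff, hc, one_mul]
  · rw [Algebra.smul_def (p.coeff p.natDegree), map_mul Q.1, map_pow, ← leadingCoeff, hc, one_mul]
    refine Valuation.map_sum_lt _ (pow_ne_zero _ (zero_lt_one.trans hQ).ne') fun i hi => ?_
    rw [Finset.mem_range] at hi
    refine (smul_le Q _ _).trans_lt ?_
    rw [map_pow]
    exact pow_lt_pow_right₀ hQ hi

variable [IsAlgClosed k]

theorem natDegree_coeff_le (hK : IsFunctionField k K) {u w : K} (hutr : Transcendental k u)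
    (hgen : IntermediateField.adjoin k ({u, w} : Set K) = ⊤)
    (hwu : ∀ P : Place k K, 1 ≤ P.1 u → P.1 (w / u) ≤ 1) {n : ℕ} (hn : n = degX k u) (a : Fin n → k[X])
    (ha : w ^ n = ∑ j, aeval u (a j) * w ^ (j : ℕ)) (j : Fin n) : (a j).natDegree ≤ n - (j : ℕ) := by
  classical
  have hu0 : u ≠ 0 := fun h => hutr (h ▸ isAlgebraic_zero)
  set ξ := u⁻¹ with hξdef
  have hξtr : Transcendental k ξ := transcendental_inv hK.1 hutr
  have hgen' : IntermediateField.adjoin k ({ξ, w / u} : Set K) = ⊤ := by
    rw [eq_top_iff, ← hgen, IntermediateField.adjoin_le_iff]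
    have h1 : ξ ∈ IntermediateField.adjoin k ({ξ, w / u} : Set K) := IntermediateField.subset_adjoin k _ (by simp)
    have h2 : w / u ∈ IntermediateField.adjoin k ({ξ, w / u} : Set K) := IntermediateField.subset_adjoin k _ (by simp)
    rintro z (rfl | rfl)
    · simpa [hξdef] using inv_mem h1
    · have := mul_mem h2 (inv_mem h1)
      rwa [hξdef, inv_inv, div_mul_cancel₀ _ hu0] at this
  have hdξ : n = degX k ξ := by rw [hn, hξdef, degX_inv]
  obtain ⟨b, hb⟩ : ∃ b : Fin n → k[X], (w / u) ^ n = ∑ j, aeval ξ (b j) * (w / u) ^ (j : ℕ) := by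
    rw [hdξ]
    refine mem_span_pows hK hξtr hgen' (fun P h => hwu P ?_) (pow_mem (Algebra.subset_adjoin (by simp)) _)
    rwa [hξdef, map_inv₀, inv_le_one₀ (zero_lt_iff.2 (v_ne_zero P hu0))] at h
  set c' : Fin n → K := fun j => aeval ξ (b j) * u ^ (n - (j : ℕ)) with hc'
  have hc'mem : ∀ j, c' j ∈ IntermediateField.adjoin k ({u} : Set K) := fun j =>
    mul_mem (adjoin_inv (k := k) u ▸ Fibre.poly_mem ξ (b j)) (pow_mem (IntermediateField.mem_adjoin_simple_self k u) _)
  have hrel' : w ^ n = ∑ j : Fin n, c' j * w ^ (j : ℕ) := by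
    have h := congrArg (fun z => z * u ^ n) hb
    simp only [Finset.sum_mul] at h
    rw [← mul_pow, div_mul_cancel₀ _ hu0] at h
    rw [h]
    refine Finset.sum_congr rfl fun j _ => ?_
    rw [hc', div_pow]
    have hp : u ^ n = u ^ (n - (j : ℕ)) * u ^ (j : ℕ) := by rw [← pow_add, Nat.sub_add_cancel j.2.le]
    rw [hp]
    field_simp
  have heq : aeval u (a j) = c' j := by
    have h1 := minpoly_eq hK hutr hgen hn (c := fun j => aeval u (a j)) (fun j => Fibre.poly_mem u (a j)) ha
    rw [minpoly_eq hK hutr hgen hn hc'mem hrel'] at h1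
    have h2 := congrArg (fun p : (IntermediateField.adjoin k ({u} : Set K))[X] => (((Polynomial.coeff p (j : ℕ)) : IntermediateField.adjoin k ({u} : Set K)) : K)) h1
    simp [Fin.val_inj, j.2.ne, Polynomial.coeff_C_mul, Polynomial.coeff_X_pow] at h2
    exact h2.symm
  rcases eq_or_ne (a j) 0 with h0 | h0
  · simp [h0]
  obtain ⟨Q, hQ⟩ := exists_pole' hK.1 hutr
  have hQu : 1 < Q.1 u := by
    rw [v_eq_exp Q hu0, ← exp_zero, exp_lt_exp]; omega
  have h := v_aeval_gt hQu h0
  rw [heq, hc', map_mul, map_pow] at h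
  by_contra hlt
  have h1 : Q.1 (aeval ξ (b j)) * Q.1 u ^ (n - (j : ℕ)) < Q.1 u ^ (a j).natDegree := by
    refine lt_of_le_of_lt ((mul_le_mul' (v_aeval_le Q ?_ (b j)) le_rfl).trans_eq (one_mul _)) (pow_lt_pow_right₀ hQu (not_le.1 hlt))
    rw [hξdef, map_inv₀]
    exact inv_le_one_of_one_le₀ hQu.le
  rw [h] at h1
  exact lt_irrefl _ h1

theorem totalDegree_monicRel {n : ℕ} (a : Fin n → k[X]) (ha : ∀ j, (a j).natDegree ≤ n - (j : ℕ)) :
    (monicRel a).totalDegree = n := by
  refine le_antisymm ?_ ?_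
  · refine (MvPolynomial.totalDegree_sub _ _).trans (max_le ?_ (MvPolynomial.totalDegree_finsetSum_le fun j _ => ?_))
    · exact ((MvPolynomial.totalDegree_pow _ _).trans (by simp))
    · refine (MvPolynomial.totalDegree_mul _ _).trans ?_
      have h1 : (aeval (MvPolynomial.X 0 : MvPolynomial (Fin 2) k) (a j)).totalDegree ≤ (a j).natDegree := by
        rw [aeval_eq_sum_range]
        refine MvPolynomial.totalDegree_finsetSum_le fun i hi => ?_
        rw [Finset.mem_range] at hi
        exact (MvPolynomial.totalDegree_smul_le _ _).trans ((MvPolynomial.totalDegree_pow _ _).trans (by simp; omega))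
      have h2 : ((MvPolynomial.X 1 : MvPolynomial (Fin 2) k) ^ (j : ℕ)).totalDegree ≤ (j : ℕ) :=
        (MvPolynomial.totalDegree_pow _ _).trans (by simp)
      have := ha j
      have := j.2
      omega
  · have h := natDegree_subst_le ![(0 : k[X]), Polynomial.X] (Fin.forall_fin_two.2 ⟨by simp, by simp⟩) (monicRel a)
    have e : MvPolynomial.aeval ![(0 : k[X]), Polynomial.X] (monicRel a) =
        Polynomial.X ^ n - ∑ j : Fin n, Polynomial.C ((a j).coeff 0) * Polynomial.X ^ (j : ℕ) := by
      have e0 : ∀ q : k[X], MvPolynomial.aeval ![(0 : k[X]), Polynomial.X]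
          (Polynomial.aeval (MvPolynomial.X 0 : MvPolynomial (Fin 2) k) q) = Polynomial.C (q.coeff 0) := fun q => by
        rw [← Polynomial.aeval_algHom_apply, MvPolynomial.aeval_X]
        show Polynomial.aeval (0 : k[X]) q = _
        rw [← Polynomial.coeff_zero_eq_aeval_zero']
        rfl
      simp [monicRel, e0]
    have hdlt : (∑ j : Fin n, Polynomial.C ((a j).coeff 0) * Polynomial.X ^ (j : ℕ)).degree < (n : WithBot ℕ) :=
      lt_of_le_of_lt (degree_sum_le _ _) ((Finset.sup_lt_iff (WithBot.bot_lt_coe n)).2 fun i _ =>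
        (degree_C_mul_X_pow_le _ _).trans_lt (WithBot.coe_lt_coe.2 i.2))
    rw [e, natDegree_eq_of_degree_eq_some (n := n) (by
      rw [degree_sub_eq_left_of_degree_lt (by rwa [degree_X_pow]), degree_X_pow])] at h
    exact h

/-- the relation of a plane model -/
theorem exists_rel (hK : IsFunctionField k K) (x y : K) (hxy : IntermediateField.adjoin k ({x, y} : Set K) = ⊤) :
    ∃ f : MvPolynomial (Fin 2) k, Irreducible f ∧ MvPolynomial.aeval ![x, y] f = 0 ∧
      (mapDiv k ![(1 : K), x, y]).deg = f.totalDegree ∧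
      ∀ g : MvPolynomial (Fin 2) k, MvPolynomial.aeval ![x, y] g = 0 → f ∣ g := by
  classical
  obtain ⟨s, H, hH⟩ := exists_hasse hK.1
  set δ := Hasse.deriv hH with hδdef
  have hδ : δ x ≠ 0 ∨ δ y ≠ 0 := by
    by_contra hcon
    push Not at hcon
    let Z : IntermediateField k K :=
      { carrier := {z | δ z = 0}
        mul_mem' := fun {a b} (ha : δ a = 0) (hb : δ b = 0) => show δ (a * b) = 0 by simp [ha, hb]
        one_mem' := δ.map_one_eq_zero
        add_mem' := fun {a b} (ha : δ a = 0) (hb : δ b = 0) => show δ (a + b) = 0 by simp [ha, hb]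
        zero_mem' := map_zero δ
        algebraMap_mem' := fun c => δ.map_algebraMap c
        inv_mem' := fun a (ha : δ a = 0) => show δ a⁻¹ = 0 by rw [δ.leibniz_inv, ha, smul_zero] }
    have hle : IntermediateField.adjoin k ({x, y} : Set K) ≤ Z :=
      IntermediateField.adjoin_le_iff.2 (by rintro z (rfl | rfl); exacts [hcon.1, hcon.2])
    have : δ s = 0 := hle (hxy ▸ IntermediateField.mem_top)
    rw [hδdef, Hasse.deriv_apply, LocRes.hasseD_apply, hH.1] at this
    simp at this
  obtain ⟨u, w, c₀, c₁, c₂, hu, hw, -, hutr, hgen, hdeg, huL, hwL, hexact⟩ := exists_gen hK x y hxy δ hδ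
  have hu0 : u ≠ 0 := fun h => hutr (h ▸ isAlgebraic_zero)
  set D := mapDiv k ![(1 : K), x, y] with hD
  have hwu : ∀ P : Place k K, 1 ≤ P.1 u → P.1 (w / u) ≤ 1 := fun P h => by
    rw [map_div₀, div_le_one₀ (zero_lt_iff.2 (v_ne_zero P hu0))]
    refine (hwL P).trans ?_
    by_cases h0 : D P = 0
    · rw [h0, exp_zero]; exact h
    · rw [hexact P h0]
  obtain ⟨a, ha⟩ := mem_span_pows hK hutr hgen (fun P h => (hwL P).trans (by
    have h0 : 0 ≤ D P := by rw [hD, mapDiv_plane hK]; omega
    by_contra hcon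
    push Not at hcon
    rw [← exp_zero, exp_lt_exp] at hcon
    rw [hexact P (by omega), ← exp_zero, exp_le_exp] at h
    omega)) (f := w ^ degX k u) (pow_mem (Algebra.subset_adjoin (by simp)) _)
  obtain ⟨L₁, M, hML, hLM, hLv, hLd, hMd, -, -⟩ := exists_affine hu hw
  set P := monicRel a with hP
  have hPd : P.totalDegree = degX k u :=
    totalDegree_monicRel a (natDegree_coeff_le hK hutr hgen hwu rfl a ha)
  have hn0 : 0 < degX k u := by
    have := finite_over hK.1 hutr
    exact Module.finrank_pos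
  have hML' : ∀ F, MvPolynomial.aeval L₁ (MvPolynomial.aeval M F) = F := fun F => by
    rw [← AlgHom.comp_apply, MvPolynomial.comp_aeval, show (fun i => MvPolynomial.aeval L₁ (M i)) = MvPolynomial.X from funext hML]
    exact MvPolynomial.aeval_X_left_apply F
  have hLM' : ∀ F, MvPolynomial.aeval M (MvPolynomial.aeval L₁ F) = F := fun F => by
    rw [← AlgHom.comp_apply, MvPolynomial.comp_aeval, show (fun i => MvPolynomial.aeval M (L₁ i)) = MvPolynomial.X from funext hLM]
    exact MvPolynomial.aeval_X_left_apply F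
  have hcomp : ∀ F : MvPolynomial (Fin 2) k,
      MvPolynomial.aeval ![x, y] (MvPolynomial.aeval L₁ F) = MvPolynomial.aeval ![u, w] F := fun F => by
    rw [← AlgHom.comp_apply, MvPolynomial.comp_aeval,
      show (fun i => MvPolynomial.aeval ![x, y] (L₁ i)) = ![u, w] from funext hLv]
  set f := MvPolynomial.aeval L₁ P with hf
  have hf0 : MvPolynomial.aeval ![x, y] f = 0 := by rw [hcomp, monicRel_eval a ha]
  have hdiv : ∀ g : MvPolynomial (Fin 2) k, MvPolynomial.aeval ![x, y] g = 0 → f ∣ g := fun g hg => by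
    have h1 : P ∣ MvPolynomial.aeval M g := monicRel_dvd hK hutr hgen a ha _ (by rw [← hcomp, hML', hg])
    have h2 := map_dvd (MvPolynomial.aeval L₁) h1
    rwa [hML'] at h2
  have hfd : f.totalDegree = degX k u := by
    refine le_antisymm (hPd ▸ totalDegree_subst_le L₁ hLd P) ?_
    have := totalDegree_subst_le M hMd f
    rwa [hf, hLM', hPd] at this
  have hne : f ≠ 0 := fun h => by rw [h, MvPolynomial.totalDegree_zero] at hfd; omega
  refine ⟨f, ⟨fun hunit => ?_, fun G G' he => ?_⟩, hf0, by rw [hfd, ← hdeg], hdiv⟩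
  · have := hunit.map (MvPolynomial.aeval ![x, y])
    rw [hf0] at this
    exact not_isUnit_zero this
  · have h : MvPolynomial.aeval ![x, y] G * MvPolynomial.aeval ![x, y] G' = 0 := by rw [← map_mul, ← he, hf0]
    rcases mul_eq_zero.1 h with h' | h'
    · obtain ⟨q, hq⟩ := hdiv G h'
      refine Or.inr (IsUnit.of_mul_eq_one q ?_)
      rw [hq, mul_assoc] at he
      exact mul_left_cancel₀ hne (by rw [mul_comm G', ← he, mul_one])
    · obtain ⟨q, hq⟩ := hdiv G' h'
      refine Or.inl (IsUnit.of_mul_eq_one q ?_)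
      rw [hq, mul_left_comm] at he
      exact mul_left_cancel₀ hne (by rw [← he, mul_one])

theorem rel_unique (hK : IsFunctionField k K) (x y : K) (hxy : IntermediateField.adjoin k ({x, y} : Set K) = ⊤)
    (f : MvPolynomial (Fin 2) k) (hf : Irreducible f) (hfxy : MvPolynomial.aeval ![x, y] f = 0) :
    (mapDiv k ![(1 : K), x, y]).deg = f.totalDegree ∧
      ∀ g : MvPolynomial (Fin 2) k, MvPolynomial.aeval ![x, y] g = 0 → f ∣ g := by
  obtain ⟨f₀, hf₀, -, hd, hdiv⟩ := exists_rel hK x y hxy
  obtain ⟨c, hc⟩ := hdiv f hfxy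
  have hcu : IsUnit c := (hf.isUnit_or_isUnit hc).resolve_left hf₀.not_isUnit
  obtain ⟨l, hl, rfl⟩ := MvPolynomial.isUnit_iff_eq_C_of_isReduced.1 hcu
  refine ⟨?_, fun g hg => ?_⟩
  · rw [hd, hc, MvPolynomial.totalDegree_mul_of_isDomain hf₀.ne_zero hcu.ne_zero, MvPolynomial.totalDegree_C, add_zero]
  · rw [hc]
    exact (IsUnit.mul_right_dvd hcu).2 (hdiv g hg)

/-- homogenisation to a given degree -/
noncomputable def hom {n : ℕ} (m : ℕ) (p : MvPolynomial (Fin n) k) : MvPolynomial (Fin (n + 1)) k :=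
  ∑ j ∈ Finset.range (m + 1), MvPolynomial.X 0 ^ (m - j) * MvPolynomial.rename Fin.succ (MvPolynomial.homogeneousComponent j p)

/-- setting the first variable to one -/
noncomputable def dehom {n : ℕ} : MvPolynomial (Fin (n + 1)) k →ₐ[k] MvPolynomial (Fin n) k :=
  MvPolynomial.aeval (Fin.cons 1 MvPolynomial.X)

omit [IsAlgClosed k] in
theorem hom_isHomogeneous {n : ℕ} (m : ℕ) (p : MvPolynomial (Fin n) k) : (hom m p).IsHomogeneous m := by
  refine MvPolynomial.IsHomogeneous.sum _ _ _ fun j hj => ?_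
  rw [Finset.mem_range] at hj
  have h1 : ((MvPolynomial.X 0 : MvPolynomial (Fin (n + 1)) k) ^ (m - j)).IsHomogeneous (m - j) := by
    simpa using (MvPolynomial.isHomogeneous_X k (0 : Fin (n + 1))).pow (m - j)
  have h2 := h1.mul ((MvPolynomial.homogeneousComponent_isHomogeneous j p).rename_isHomogeneous (f := Fin.succ))
  rwa [Nat.sub_add_cancel (by omega)] at h2

omit [IsAlgClosed k] in
theorem dehom_hom {n : ℕ} {m : ℕ} {p : MvPolynomial (Fin n) k} (h : p.totalDegree ≤ m) : dehom (hom m p) = p := by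
  have e : ∀ q : MvPolynomial (Fin n) k, dehom (MvPolynomial.rename Fin.succ q) = q := fun q => by
    rw [dehom, MvPolynomial.aeval_rename, show (Fin.cons (1 : MvPolynomial (Fin n) k) MvPolynomial.X) ∘ Fin.succ = MvPolynomial.X from rfl]
    exact MvPolynomial.aeval_X_left_apply q
  have h0 : dehom (MvPolynomial.X 0 : MvPolynomial (Fin (n + 1)) k) = 1 := by simp [dehom]
  simp only [hom, map_sum, map_mul, map_pow, h0, one_pow, one_mul, e]
  conv_rhs => rw [← MvPolynomial.sum_homogeneousComponent p]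
  refine (Finset.sum_subset (Finset.range_subset_range.2 (by omega)) fun j _ hj => ?_).symm
  rw [Finset.mem_range, not_lt] at hj
  exact MvPolynomial.homogeneousComponent_eq_zero _ _ (by omega)

omit [IsAlgClosed k] in
theorem aeval_scale {σ : Type*} [Fintype σ] {R : Type*} [CommRing R] [Algebra k R] {g : MvPolynomial σ k} {m : ℕ}
    (hg : g.IsHomogeneous m) (c : R) (r : σ → R) :
    MvPolynomial.aeval (fun i => c * r i) g = c ^ m * MvPolynomial.aeval r g := by
  rw [MvPolynomial.aeval_def, MvPolynomial.aeval_def, MvPolynomial.eval₂_eq', MvPolynomial.eval₂_eq', Finset.mul_sum]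
  refine Finset.sum_congr rfl fun d hd => ?_
  have hdeg : ∑ i, d i = m := by
    have h := hg (MvPolynomial.mem_support_iff.1 hd)
    simpa [Finsupp.weight_apply, Finsupp.sum_fintype] using h
  have hp : c ^ m * ∏ i, r i ^ d i = ∏ i, (c * r i) ^ d i := by
    rw [← hdeg, ← Finset.prod_pow_eq_pow_sum, ← Finset.prod_mul_distrib]
    exact Finset.prod_congr rfl fun i _ => by rw [mul_pow]
  rw [← hp]; ring

omit [IsAlgClosed k] in
theorem eq_zero_of_dehom {n : ℕ} {g : MvPolynomial (Fin (n + 1)) k} {m : ℕ} (hg : g.IsHomogeneous m)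
    (h : dehom g = 0) : g = 0 := by
  let R := FractionRing (MvPolynomial (Fin (n + 1)) k)
  let X' : Fin (n + 1) → R := fun i => algebraMap (MvPolynomial (Fin (n + 1)) k) R (MvPolynomial.X i)
  have hX0 : X' 0 ≠ 0 := fun h0 => MvPolynomial.X_ne_zero (0 : Fin (n + 1))
    (IsFractionRing.injective (MvPolynomial (Fin (n + 1)) k) R (h0.trans (map_zero _).symm))
  have h1 : MvPolynomial.aeval X' g = 0 := by
    rw [show X' = fun i => X' 0 * (X' i / X' 0) from funext fun i => (mul_div_cancel₀ _ hX0).symm, aeval_scale hg]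
    have e : MvPolynomial.aeval (fun i => X' i / X' 0) g = MvPolynomial.aeval (fun i : Fin n => X' i.succ / X' 0) (dehom g) := by
      rw [dehom, ← AlgHom.comp_apply, MvPolynomial.comp_aeval]
      congr 1
      apply MvPolynomial.algHom_ext
      intro i
      refine Fin.cases ?_ (fun l => ?_) i <;> simp [hX0]
    rw [e, h, map_zero, mul_zero]
  have e2 : MvPolynomial.aeval X' g = algebraMap (MvPolynomial (Fin (n + 1)) k) R g := by
    exact (DFunLike.congr_fun (MvPolynomial.aeval_unique (IsScalarTower.toAlgHom k (MvPolynomial (Fin (n + 1)) k) R)) g).symm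
  exact IsFractionRing.injective (MvPolynomial (Fin (n + 1)) k) R (by rw [← e2, h1, map_zero])

omit [IsAlgClosed k] in
theorem eq_of_dehom {n : ℕ} {g g' : MvPolynomial (Fin (n + 1)) k} {m : ℕ} (hg : g.IsHomogeneous m)
    (hg' : g'.IsHomogeneous m) (h : dehom g = dehom g') : g = g' :=
  sub_eq_zero.1 (eq_zero_of_dehom (hg.sub hg') (by rw [map_sub, h, sub_self]))

omit [IsAlgClosed k] in
/-- membership in the homogeneous ideal of a map -/
theorem mem_cone_iff {σ : Type*} [Fintype σ] (φ : σ → K) (g : MvPolynomial σ k) :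
    MvPolynomial.aeval (fun i => Polynomial.C (φ i) * Polynomial.X) g = 0 ↔
      ∀ m, MvPolynomial.aeval φ (MvPolynomial.homogeneousComponent m g) = 0 := by
  have hval : ∀ m, MvPolynomial.aeval (fun i => Polynomial.C (φ i) * Polynomial.X) (MvPolynomial.homogeneousComponent m g) =
      Polynomial.C (MvPolynomial.aeval φ (MvPolynomial.homogeneousComponent m g)) * Polynomial.X ^ m := fun m => by
    rw [show (fun i => Polynomial.C (φ i) * (Polynomial.X : K[X])) = fun i => Polynomial.X * Polynomial.C (φ i) from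
      funext fun i => mul_comm _ _, aeval_scale (MvPolynomial.homogeneousComponent_isHomogeneous m g), mul_comm]
    congr 1
    show _ = Polynomial.CAlgHom (R := k) (MvPolynomial.aeval φ _)
    rw [← AlgHom.comp_apply, MvPolynomial.comp_aeval]
    rfl
  conv_lhs => rw [← MvPolynomial.sum_homogeneousComponent g, map_sum]
  simp only [hval]
  obtain ⟨A, hA⟩ : ∃ A : ℕ → K, ∀ m, MvPolynomial.aeval φ (MvPolynomial.homogeneousComponent m g) = A m :=
    ⟨_, fun _ => rfl⟩
  simp only [hA]
  constructor
  · intro h m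
    rcases le_or_gt m g.totalDegree with hm | hm
    · have := congrArg (fun p : K[X] => p.coeff m) h
      simpa [Polynomial.coeff_C_mul_X_pow, Nat.lt_succ_iff, hm] using this
    · rw [← hA, MvPolynomial.homogeneousComponent_eq_zero _ _ hm, map_zero]
  · intro h
    simp [h]

end Groth.Agent.FunFldLib.Plane
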